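/-
Operators attached to a component moved by an element: the elementary identities behind the
theorem that best offenders normalize every component.
-/
import Mathlib
import Cfsg.Agent.S0144

set_option autoImplicit false
set_option linter.style.haveILetI false

namespace CfsgLib.PGV

open Subgroup
open scoped commutatorElement

variable {H M : Type*} [Group H] [AddCommGroup M]

/-- The operator `σ g - 1`. -/
def opd (σ : H →* AddMonoid.End M) (g : H) : AddMonoid.End M := σ g - 1

/-- What is used of a component: conjugates different from it commute with it, it is perfect, and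
an element normalizing it without centralizing it gives generating commutators. -/
structure Comp (K : Subgroup H) : Prop where
  comm : ∀ e : H, e ∉ normalizer (K : Set H) → ∀ g ∈ K, ∀ h ∈ K, Commute g (e * h * e⁻¹)
  perfect : ⁅K, K⁆ = K
  gen : ∀ b ∈ normalizer (K : Set H), b ∉ centralizer (K : Set H) → ∀ X : Subgroup H,
    (∀ k ∈ K, ⁅b, k⁆ ∈ X) → K ≤ X
  nonabelian : ∃ u ∈ K, u ∉ centralizer (K : Set H)

variable {σ : H →* AddMonoid.End M} {K : Subgroup H}

theorem opd_mul (g h : H) : opd σ (g * h) = σ g * opd σ h + opd σ g := by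
  simp [opd, mul_sub]

theorem opd_inv (g : H) : opd σ g⁻¹ = -(σ g⁻¹ * opd σ g) := by
  have : σ g⁻¹ * σ g = 1 := by rw [← map_mul, inv_mul_cancel, map_one]
  simp [opd, mul_sub, this]

theorem commute_opd {g h : H} (hc : Commute g h) : Commute (σ g) (opd σ h) :=
  Commute.sub_right (hc.map σ) (Commute.one_right _)

theorem σ_inv_mul (g : H) : σ g⁻¹ * σ g = 1 := by rw [← map_mul, inv_mul_cancel, map_one]

theorem σ_mul_inv (g : H) : σ g * σ g⁻¹ = 1 := by rw [← map_mul, mul_inv_cancel, map_one]

theorem commute_opd_opd {g h : H} (hc : Commute g h) : Commute (opd σ g) (opd σ h) :=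
  Commute.sub_left (commute_opd hc) (Commute.one_left _)

/-- If `a` fixes the image of `f`, and `f` commutes with `a` and `g`, then `g` and its conjugate by
`a` agree after `f`. -/
theorem agree_of_fixed {a g : H} {f : AddMonoid.End M} (haf : σ a * f = f)
    (hga : Commute (σ g) f) : σ (a * g * a⁻¹) * f = σ g * f := by
  have h1 : σ a⁻¹ * f = f := by
    calc σ a⁻¹ * f = σ a⁻¹ * (σ a * f) := by rw [haf]
      _ = f := by rw [← mul_assoc, σ_inv_mul, one_mul]
  calc σ (a * g * a⁻¹) * f = σ a * (σ g * (σ a⁻¹ * f)) := by simp [map_mul, mul_assoc]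
    _ = σ a * (f * σ g) := by rw [h1, hga.eq]
    _ = f * σ g := by rw [← mul_assoc, haf]
    _ = σ g * f := hga.eq.symm

/-- A perfect subgroup whose image has only central `{2,q}`-powers acts trivially. -/
theorem trivial_of_pow_central [Finite H] (hK : ⁅K, K⁆ = K) {i j q : ℕ} (hq : q.Prime)
    (hc : ∀ g ∈ K, ∀ k ∈ K, Commute (σ (g ^ (2 ^ i * q ^ j))) (σ k)) :
    ∀ g ∈ K, σ g = 1 := by
  classical
  let f : K →* (AddMonoid.End M)ˣ := (σ.comp K.subtype).toHomUnits
  let R := f.range
  let Z := center R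
  have hperfR : ∀ N : Subgroup R, N.Normal → (∀ x y : R, ⁅x, y⁆ ∈ N) → N = ⊤ := by
    intro N _ hN
    rw [eq_top_iff]
    rintro ⟨_, g, rfl⟩ -
    let L : Subgroup K := N.comap f.rangeRestrict
    have hL : K ≤ L.map K.subtype := by
      conv_lhs => rw [← hK]
      rw [commutator_le]
      intro x hx y hy
      exact mem_map.2 ⟨⁅(⟨x, hx⟩ : K), (⟨y, hy⟩ : K)⁆, by
        simpa [L, map_commutatorElement] using hN (f.rangeRestrict ⟨x, hx⟩) (f.rangeRestrict ⟨y, hy⟩), rfl⟩
    obtain ⟨g', hg', he⟩ := mem_map.1 (hL g.2)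
    obtain rfl : g' = g := Subtype.ext he
    exact hg'
  haveI : Finite R := Finite.of_surjective f.rangeRestrict f.rangeRestrict_surjective
  have hexp : ∀ x : R ⧸ Z, x ^ (2 ^ i * q ^ j) = 1 := by
    intro x
    induction x using QuotientGroup.induction_on with
    | H x =>
      obtain ⟨_, g, rfl⟩ := x
      rw [← QuotientGroup.mk_pow, QuotientGroup.eq_one_iff]
      rw [mem_center_iff]
      rintro ⟨_, k, rfl⟩
      refine Subtype.ext (Units.ext ?_)
      have := (hc g g.2 k k.2).symm.eq
      simpa [f, map_pow] using this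
  have hsol : Group.IsSolvable (R ⧸ Z) := by
    have hdvd : ∀ r : ℕ, r.Prime → r ∣ Nat.card (R ⧸ Z) → r = 2 ∨ r = q := by
      intro r hr hrd
      haveI := Fact.mk hr
      obtain ⟨x, hx⟩ := exists_prime_orderOf_dvd_card' r hrd
      have := orderOf_dvd_of_pow_eq_one (hexp x)
      rw [hx] at this
      rcases hr.dvd_mul.1 this with h | h
      · exact Or.inl ((Nat.prime_dvd_prime_iff_eq hr Nat.prime_two).1 (hr.dvd_of_dvd_pow h))
      · exact Or.inr ((Nat.prime_dvd_prime_iff_eq hr hq).1 (hr.dvd_of_dvd_pow h))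
    set n := Nat.card (R ⧸ Z) with hn
    rcases eq_or_ne q 2 with rfl | hq2
    · refine Cfsg.Agent.S0144.result 2 2 n.primeFactorsList.length 0 Nat.prime_two Nat.prime_two ?_
      rw [pow_zero, mul_one]
      exact Nat.eq_prime_pow_of_unique_prime_dvd Nat.card_pos.ne'
        fun {d} hd hdd => (hdvd d hd hdd).elim id id
    · refine Cfsg.Agent.S0144.result 2 q (n.factorization 2) (n.factorization q) Nat.prime_two hq ?_
      refine Nat.eq_of_factorization_eq Nat.card_pos.ne'
        (mul_ne_zero (pow_ne_zero _ two_ne_zero) (pow_ne_zero _ hq.ne_zero)) fun r => ?_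
      rw [Nat.factorization_mul (pow_ne_zero _ two_ne_zero) (pow_ne_zero _ hq.ne_zero),
        Nat.prime_two.factorization_pow, hq.factorization_pow, Finsupp.add_apply,
        Finsupp.single_apply, Finsupp.single_apply]
      by_cases hr : r = 2
      · subst hr; simp [hq2, n]
      by_cases hr' : r = q
      · subst hr'; simp [Ne.symm hq2, n]
      rw [if_neg (Ne.symm hr), if_neg (Ne.symm hr'), add_zero]
      by_cases hrp : r.Prime
      · exact Nat.factorization_eq_zero_of_not_dvd fun h => (hdvd r hrp h).elim hr hr'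
      · exact Nat.factorization_eq_zero_of_not_prime _ hrp
  have hcomm : commutator (R ⧸ Z) = ⊤ := by
    rw [eq_top_iff]
    rintro x -
    induction x using QuotientGroup.induction_on with
    | H x =>
      have := hperfR ((commutator (R ⧸ Z)).comap (QuotientGroup.mk' Z)) inferInstance
        (fun a b => by
          rw [mem_comap, map_commutatorElement]
          exact commutator_mem_commutator (mem_top _) (mem_top _))
      have hx : x ∈ (commutator (R ⧸ Z)).comap (QuotientGroup.mk' Z) := this ▸ mem_top x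
      exact hx
  have hsub : Subsingleton (R ⧸ Z) := by
    by_contra h
    rw [not_subsingleton_iff_nontrivial] at h
    haveI := hsol
    exact (Group.IsSolvable.commutator_lt_top_of_nontrivial (R ⧸ Z)).ne hcomm
  have hZ : ∀ x : R, x ∈ Z := fun x => (QuotientGroup.eq_one_iff x).1 (Subsingleton.elim _ _)
  have hbot : (⊥ : Subgroup R) = ⊤ := hperfR ⊥ inferInstance fun x y => by
    rw [mem_bot, commutatorElement_eq_one_iff_mul_comm]
    exact (mem_center_iff.1 (hZ y) x)
  intro g hg
  have h1 : f.rangeRestrict ⟨g, hg⟩ = 1 := mem_bot.1 (hbot ▸ mem_top _)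
  exact congrArg (fun u : R => ((u : (AddMonoid.End M)ˣ) : AddMonoid.End M)) h1

/-- A perfect subgroup acting through commuting operators acts trivially. -/
theorem trivial_of_commute (hK : ⁅K, K⁆ = K) (hc : ∀ g ∈ K, ∀ k ∈ K, Commute (σ g) (σ k)) :
    ∀ g ∈ K, σ g = 1 := by
  have h : K ≤ σ.ker := by
    conv_lhs => rw [← hK]
    rw [commutator_le]
    intro g hg k hk
    rw [MonoidHom.mem_ker, commutatorElement_def]
    simp only [map_mul]
    rw [(hc g hg k hk).eq]
    simp only [mul_assoc]
    rw [← mul_assoc (σ g) (σ g⁻¹), σ_mul_inv, one_mul, σ_mul_inv]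
  exact fun g hg => h hg

/-- If the agreement of `g` with its conjugate holds after `f` for all of `K`, then `K` fixes the image of `f`. -/
theorem opd_mul_eq_zero_of_agree (hK : Comp K) {a : H} (ha : a ∉ normalizer (K : Set H))
    {f : AddMonoid.End M} (hf : ∀ g ∈ K, Commute (σ g) f)
    (h : ∀ g ∈ K, σ (a * g * a⁻¹) * f = σ g * f) : ∀ g ∈ K, opd σ g * f = 0 := by
  let S : Subgroup H :=
    { carrier := {k | σ k * f = f ∧ σ k⁻¹ * f = f}
      one_mem' := by simp
      mul_mem' := fun {x y} hx hy => ⟨by rw [map_mul, mul_assoc, hy.1, hx.1],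
        by rw [mul_inv_rev, map_mul, mul_assoc, hx.2, hy.2]⟩
      inv_mem' := fun {x} hx => ⟨hx.2, by rw [inv_inv]; exact hx.1⟩ }
  have key : ∀ g ∈ K, ∀ k ∈ K, σ (g * k) * f = σ (k * g) * f := by
    intro g hg k hk
    have hcomm : Commute g (a * k * a⁻¹) := hK.comm a ha g hg k hk
    calc σ (g * k) * f = σ g * (σ (a * k * a⁻¹) * f) := by rw [h k hk, map_mul, mul_assoc]
      _ = σ (a * k * a⁻¹) * (σ g * f) := by rw [← mul_assoc, (hcomm.map σ).eq, mul_assoc]
      _ = σ (a * k * a⁻¹) * (f * σ g) := by rw [(hf g hg).eq]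
      _ = σ k * (f * σ g) := by rw [← mul_assoc, h k hk, mul_assoc]
      _ = σ k * (σ g * f) := by rw [(hf g hg).eq]
      _ = σ (k * g) * f := by rw [map_mul, mul_assoc]
  have hle : K ≤ S := by
    conv_lhs => rw [← hK.perfect]
    rw [commutator_le]
    intro g hg k hk
    have gen : ∀ g ∈ K, ∀ k ∈ K, σ ⁅g, k⁆ * f = f := by
      intro g hg k hk
      calc σ ⁅g, k⁆ * f = σ (g * k) * (σ (g⁻¹ * k⁻¹) * f) := by
            rw [← mul_assoc, ← map_mul, commutatorElement_def]; congr 2; group
        _ = σ (g * k) * (f * σ (g⁻¹ * k⁻¹)) := by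
            rw [(hf _ (mul_mem (inv_mem hg) (inv_mem hk))).eq]
        _ = σ (k * g) * (f * σ (g⁻¹ * k⁻¹)) := by rw [← mul_assoc, key g hg k hk, mul_assoc]
        _ = σ (k * g) * (σ (g⁻¹ * k⁻¹) * f) := by
            rw [(hf _ (mul_mem (inv_mem hg) (inv_mem hk))).eq]
        _ = f := by
            rw [← mul_assoc, ← map_mul, show k * g * (g⁻¹ * k⁻¹) = 1 by group, map_one, one_mul]
    exact ⟨gen g hg k hk, by rw [commutatorElement_inv]; exact gen k hk g hg⟩
  intro g hg
  rw [opd, sub_mul, one_mul, (hle hg).1, sub_self]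

end CfsgLib.PGV
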