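/-
Components give the abstract data used for the offender theorem.
-/
import Cfsg.Agent.PGV.Basic
import Cfsg.Agent.Components.Basic
import Cfsg.Agent.Components.FStar
import Cfsg.Agent.S0199
import Cfsg.Agent.Small.Dihedral
import Cfsg.Prelude.Def_Local

set_option autoImplicit false
set_option linter.style.haveILetI false

namespace CfsgLib.PGV

open Cfsg Subgroup CfsgLib.Components
open scoped commutatorElement

variable {G : Type*} [Group G] {K : Subgroup G}

theorem map_conj_eq_iff (K : Subgroup G) (e : G) :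
    K.map (MulAut.conj e).toMonoidHom = K ↔ e ∈ normalizer (K : Set G) := by
  constructor
  · intro h
    rw [mem_normalizer_iff]
    intro z
    conv_rhs => rw [← h]
    simp [mem_map_equiv, mul_assoc]
  · intro he
    ext z
    rw [mem_map_equiv, MulAut.conj_symm_apply]
    exact ((mem_normalizer_iff''.1 he) z).symm

theorem comp_of_component (hc : IsComponent K) : Comp K := by
  have hperf : ⁅K, K⁆ = K := IsComponent.commutator_eq_self hc
  refine ⟨fun e he g hg h hh => ?_, hperf, fun b hb hbc X hX => ?_, ?_⟩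
  · have h' := IsComponent.commutator_eq_bot_of_ne hc (IsComponent.conj hc e)
      (fun h => he ((map_conj_eq_iff K e).1 h.symm))
    refine commutatorElement_eq_one_iff_mul_comm.1 ?_
    rw [← mem_bot, ← h']
    exact commutator_mem_commutator hg (mem_map_of_mem _ hh)
  · let X' : Subgroup G := closure {y | ∃ k ∈ K, y = ⁅b, k⁆}
    have hbk : ∀ k ∈ K, ⁅b, k⁆ ∈ K := fun k hk => by
      rw [commutatorElement_def]
      exact mul_mem ((mem_normalizer_iff.1 hb k).1 hk) (inv_mem hk)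
    have hle : X' ≤ K := (closure_le _).2 fun y ⟨k, hk, hy⟩ => hy ▸ hbk k hk
    haveI : (X'.subgroupOf K).Normal := by
      refine ⟨fun n hn k => ?_⟩
      rw [mem_subgroupOf] at hn ⊢
      suffices h : X' ≤ X'.comap (MulAut.conj (k : G)).toMonoidHom from h hn
      refine (closure_le _).2 fun y ⟨j, hj, hy⟩ => ?_
      have h1 : (k : G) * ⁅b, j⁆ * (k : G)⁻¹ = ⁅b, (k : G)⁆⁻¹ * ⁅b, (k : G) * j⁆ := by
        simp [commutatorElement_def, mul_assoc]
      show (k : G) * y * (k : G)⁻¹ ∈ X'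
      rw [hy, h1]
      exact mul_mem (inv_mem (subset_closure ⟨k, k.2, rfl⟩))
        (subset_closure ⟨_, mul_mem k.2 hj, rfl⟩)
    rcases IsQuasisimple.normal_eq_top_or_le_center hc.2 (X'.subgroupOf K) with h | h
    · intro k hk
      have hX'X : X' ≤ X := (closure_le _).2 fun y ⟨j, hj, hy⟩ => hy ▸ hX j hj
      exact hX'X (subgroupOf_eq_top.1 h hk)
    · exfalso
      have hcomm : ∀ k ∈ K, ∀ j ∈ K, Commute ⁅b, k⁆ j := fun k hk j hj => by
        have hm : (⟨⁅b, k⁆, hbk k hk⟩ : K) ∈ center K := h (mem_subgroupOf.2 (subset_closure ⟨k, hk, rfl⟩))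
        exact (congrArg Subtype.val (mem_center_iff.1 hm ⟨j, hj⟩)).symm
      have hmul : ∀ k ∈ K, ∀ j ∈ K, ⁅b, k * j⁆ = ⁅b, k⁆ * ⁅b, j⁆ := fun k hk j hj => by
        have h1 : ⁅b, k * j⁆ = ⁅b, k⁆ * (k * ⁅b, j⁆ * k⁻¹) := by
          simp [commutatorElement_def, mul_assoc]
        rw [h1, (hcomm j hj k hk).symm.eq, mul_inv_cancel_right]
      let S : Subgroup G :=
        { carrier := {k | k ∈ K ∧ ⁅b, k⁆ = 1}
          one_mem' := ⟨one_mem K, by simp⟩
          mul_mem' := fun {x y} hx hy => ⟨mul_mem hx.1 hy.1, by rw [hmul x hx.1 y hy.1, hx.2, hy.2, one_mul]⟩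
          inv_mem' := fun {x} hx => ⟨inv_mem hx.1, by
            have := hmul x hx.1 x⁻¹ (inv_mem hx.1)
            rw [mul_inv_cancel, hx.2, one_mul, show ⁅b, (1 : G)⁆ = 1 by simp] at this
            exact this.symm⟩ }
      have hS : K ≤ S := by
        conv_lhs => rw [← hperf]
        rw [commutator_le]
        intro x hx y hy
        have hxy : ⁅x, y⁆ ∈ K := by rw [← hperf]; exact commutator_mem_commutator hx hy
        refine ⟨hxy, ?_⟩
        have h1 := hmul _ hxy _ (mul_mem hy hx)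
        rw [show ⁅x, y⁆ * (y * x) = x * y by rw [commutatorElement_def]; group, hmul x hx y hy,
          hmul y hy x hx, (hcomm y hy _ (hbk x hx)).eq, right_eq_mul] at h1
        exact h1
      exact hbc (mem_centralizer_iff.2 fun k hk =>
        (commutatorElement_eq_one_iff_mul_comm.1 (hS hk).2).symm)
  · by_contra h
    push Not at h
    refine IsComponent.not_commute hc ?_
    rw [commutator_eq_bot_iff_le_centralizer]
    exact h

/-- An involution acting nontrivially on a component inverts a noncentral element of odd order. -/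
theorem exists_inverted [Finite G] (hc : IsComponent K) {b : G} (hb : b ∈ normalizer (K : Set G))
    (hb2 : b * b = 1) (hbc : b ∉ centralizer (K : Set G)) :
    ∃ x ∈ K, x ∉ centralizer (K : Set G) ∧ Odd (orderOf x) ∧ b * x * b⁻¹ = x⁻¹ := by
  classical
  have hK := comp_of_component hc
  haveI : Fact (Nat.Prime 2) := ⟨Nat.prime_two⟩
  by_contra hne
  push Not at hne
  have hbinv : b⁻¹ = b := inv_eq_of_mul_eq_one_right hb2
  -- every commutator `[b,k]` is a `2`-element modulo the centralizer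
  have key : ∀ k ∈ K, ∃ s : ℕ, ⁅b, k⁆ ^ (2 ^ s) ∈ centralizer (K : Set G) := by
    intro k hk
    obtain ⟨s, m, hm, hsm⟩ := Nat.exists_eq_two_pow_mul_odd (orderOf_pos (⁅b, k⁆)).ne'
    refine ⟨s, ?_⟩
    by_contra hcs
    refine hne (⁅b, k⁆ ^ (2 ^ s)) (pow_mem ?_ _) hcs ?_ ?_
    · rw [commutatorElement_def]
      exact mul_mem ((mem_normalizer_iff.1 hb k).1 hk) (inv_mem hk)
    · rw [orderOf_pow_of_dvd (by positivity) ⟨m, hsm⟩, hsm, Nat.mul_div_cancel_left _ (by positivity)]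
      exact hm
    · rw [← conj_pow, ← inv_pow]
      congr 1
      rw [commutatorElement_def, hbinv]
      simp only [mul_inv_rev, inv_inv, mul_assoc]
      rw [← mul_assoc b b, hb2, one_mul, hbinv]
  let N : Subgroup G := normalizer (K : Set G)
  let T : Subgroup G := K ⊔ zpowers b
  have hTN : T ≤ N := sup_le le_normalizer (zpowers_le.2 hb)
  let Z : Subgroup T := (centralizer (K : Set G)).subgroupOf T
  haveI : Z.Normal := ⟨fun n hn g => by
    have h := (Subgroup.normal_subgroupOf_centralizer_normalizer (K : Set G)).conj_mem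
      ⟨(n : G), hTN n.2⟩ hn ⟨(g : G), hTN g.2⟩
    exact h⟩
  let π := QuotientGroup.mk' Z
  have hKT : K ≤ T := le_sup_left
  have hbT : b ∈ T := le_sup_right (a := K) (mem_zpowers b)
  let b' : T := ⟨b, hbT⟩
  have hcomm : ∀ t : T, ∃ k : ℕ, orderOf ((π b')⁻¹ * (π t)⁻¹ * π b' * π t) = 2 ^ k := by
    intro t
    have hsplit : ∃ k ∈ K, ∃ i : ℤ, (t : G) = b ^ i * k := by
      have ht : (t : G) ∈ zpowers b ⊔ K := by rw [sup_comm]; exact t.2
      rw [← SetLike.mem_coe, coe_mul_of_left_le_normalizer_right (zpowers b) K (zpowers_le.2 hb)] at ht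
      obtain ⟨z, ⟨i, rfl⟩, k, hk, he⟩ := ht
      exact ⟨k, hk, i, he.symm⟩
    obtain ⟨k, hk, i, hti⟩ := hsplit
    have he : (b'⁻¹ * t⁻¹ * b' * t : T) = ⟨⁅b, k⁻¹⁆, mul_mem (mul_mem (mul_mem hbT (inv_mem (hKT hk)))
        (inv_mem hbT)) (inv_mem (inv_mem (hKT hk)))⟩ := by
      refine Subtype.ext ?_
      show b⁻¹ * (t : G)⁻¹ * b * (t : G) = ⁅b, k⁻¹⁆
      have hbi : Commute b (b ^ i) := (Commute.refl b).zpow_right i
      calc b⁻¹ * (t : G)⁻¹ * b * (t : G) = b⁻¹ * k⁻¹ * ((b ^ i)⁻¹ * (b * b ^ i)) * k := by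
            rw [hti]; group
        _ = b⁻¹ * k⁻¹ * b * k := by rw [hbi.eq]; group
        _ = ⁅b, k⁻¹⁆ := by rw [commutatorElement_def, hbinv, inv_inv]
    rw [show (π b')⁻¹ * (π t)⁻¹ * π b' * π t = π (b'⁻¹ * t⁻¹ * b' * t) by simp, he]
    obtain ⟨s, hs⟩ := key k⁻¹ (inv_mem hk)
    obtain ⟨j, -, hj⟩ := (Nat.dvd_prime_pow Nat.prime_two).1 (orderOf_dvd_of_pow_eq_one (n := 2 ^ s)
      (show (π ⟨⁅b, k⁻¹⁆, _⟩) ^ (2 ^ s) = 1 by
        rw [← map_pow]; exact (QuotientGroup.eq_one_iff _).2 (mem_subgroupOf.2 hs)))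
    exact ⟨j, hj⟩
  set β := π b' with hβ
  have hβ2 : β * β = 1 := by
    rw [hβ, ← map_mul]
    exact (congrArg π (Subtype.ext hb2 : b' * b' = 1)).trans (map_one π)
  have hβinv : β⁻¹ = β := inv_eq_of_mul_eq_one_right hβ2
  have hX : IsPGroup 2 (zpowers β) := by
    rintro ⟨_, i, rfl⟩
    refine ⟨1, Subtype.ext ?_⟩
    show (β ^ i) ^ (2 ^ 1) = 1
    rw [pow_one, ← zpow_natCast, ← zpow_mul, mul_comm, zpow_mul, zpow_natCast, sq, hβ2, one_zpow]
  obtain ⟨N2, hN2n, hN2, hβN⟩ := Cfsg.Agent.S0199.result (zpowers β) hX fun g => by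
    rw [MonoidHom.map_zpowers]
    show IsPGroup 2 ↥(zpowers β ⊔ zpowers (g * β * g⁻¹))
    set γ := g * β * g⁻¹ with hγ
    have hγ2 : γ * γ = 1 := by
      rw [hγ]
      calc g * β * g⁻¹ * (g * β * g⁻¹) = g * (β * β) * g⁻¹ := by group
        _ = 1 := by rw [hβ2]; group
    rcases eq_or_ne β 1 with h1 | h1
    · rw [hγ, h1, mul_one, mul_inv_cancel, zpowers_one_eq_bot, sup_bot_eq]
      exact IsPGroup.of_bot
    have hβo : orderOf β = 2 := CfsgLib.Small.orderOf_eq_two_iff_sq.2 ⟨h1, hβ2⟩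
    have hγo : orderOf γ = 2 := by rw [hγ, CfsgLib.Small.orderOf_conj_eq, hβo]
    obtain ⟨t, ht⟩ := QuotientGroup.mk'_surjective Z g
    obtain ⟨j, hj⟩ := hcomm t⁻¹
    have hu : (β * γ) ^ (2 ^ j) = 1 := by
      rw [map_inv, show π t = g from ht, inv_inv] at hj
      rw [← hj, show β⁻¹ * g * β * g⁻¹ = β * γ by rw [hγ, hβinv]; group]
      exact pow_orderOf_eq_one _
    rintro ⟨d, hd⟩
    have hd' : d ∈ closure ({β, γ} : Set (T ⧸ Z)) := by
      refine (sup_le (zpowers_le.2 ?_) (zpowers_le.2 ?_) : zpowers β ⊔ zpowers γ ≤ _) hd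
      · exact subset_closure (by simp)
      · exact subset_closure (by simp)
    obtain ⟨k, hk | hk⟩ := CfsgLib.Small.mem_closure_pair_invol hβo hγo hd'
    · refine ⟨j, Subtype.ext ?_⟩
      show d ^ 2 ^ j = 1
      rw [hk, ← zpow_natCast, ← zpow_mul, mul_comm, zpow_mul, zpow_natCast, hu, one_zpow]
    · refine ⟨1, Subtype.ext ?_⟩
      show d ^ 2 ^ 1 = 1
      have hc := CfsgLib.Small.invol_conj_zpow (CfsgLib.Small.invol_conj_mul hβo hγo) k
      rw [hβinv] at hc
      rw [pow_one, sq, hk, ← mul_assoc, hc, inv_mul_cancel]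
  haveI := hN2n
  have hO : ∀ g : T ⧸ Z, β⁻¹ * g⁻¹ * β * g ∈ Cfsg.pCore 2 (T ⧸ Z) := fun g => by
    have hm : β ∈ Cfsg.pCore 2 (T ⧸ Z) := CfsgLib.Components.le_pCore hN2 (hβN (mem_zpowers β))
    have hn : (Cfsg.pCore 2 (T ⧸ Z)).Normal := inferInstance
    rw [mul_assoc (β⁻¹), mul_assoc (β⁻¹)]
    refine mul_mem (inv_mem hm) ?_
    have := hn.conj_mem β hm g⁻¹
    rwa [inv_inv] at this
  let O := (Cfsg.pCore 2 (T ⧸ Z)).comap π
  have hle : K ≤ O.map T.subtype := by
    refine hK.gen b hb hbc _ fun k hk => ?_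
    have h := hO (π ⟨k⁻¹, hKT (inv_mem hk)⟩)
    refine ⟨b'⁻¹ * (⟨k⁻¹, hKT (inv_mem hk)⟩ : T)⁻¹ * b' * ⟨k⁻¹, hKT (inv_mem hk)⟩, ?_, ?_⟩
    · show π _ ∈ Cfsg.pCore 2 (T ⧸ Z)
      simpa using h
    · show b⁻¹ * k⁻¹⁻¹ * b * k⁻¹ = ⁅b, k⁆
      rw [commutatorElement_def, hbinv, inv_inv]
  -- then `K` is nilpotent modulo its centre
  let f : K →* T ⧸ Z := π.comp (Subgroup.inclusion hKT)
  have hf : f.range ≤ Cfsg.pCore 2 (T ⧸ Z) := by
    rintro _ ⟨k, rfl⟩
    obtain ⟨o, ho, he⟩ := hle k.2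
    obtain rfl : o = Subgroup.inclusion hKT k := Subtype.ext he
    exact ho
  have hp : IsPGroup 2 f.range := (CfsgLib.Components.isPGroup_pCore 2).to_le hf
  haveI := hp.isNilpotent
  have hker : f.ker ≤ center K := by
    intro k hk
    have h1 : (Subgroup.inclusion hKT k : T) ∈ Z := (QuotientGroup.eq_one_iff _).1 hk
    exact mem_center_iff.2 fun j => Subtype.ext (mem_centralizer_iff.1 (mem_subgroupOf.1 h1) j j.2)
  haveI : Group.IsSolvable f.ker := by
    exact Group.isSolvable_of_comm fun x y => Subtype.ext (mem_center_iff.1 (hker y.2) x)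
  exact IsComponent.not_isSolvable hc
    (Group.isSolvable_of_ker_le_range (f.ker.subtype) f.rangeRestrict
      (by rw [MonoidHom.ker_rangeRestrict, Subgroup.range_subtype]))

end CfsgLib.PGV
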