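/-
Counting fixed points: a quadratic elementary group large enough to be an offender, commuting with
an involution that moves a component, forces that involution to be a transvection.
-/
import Mathlib

set_option autoImplicit false
set_option linter.style.haveILetI false

namespace CfsgLib.PGV

variable {M : Type*} [AddCommGroup M]

/-- The kernel of an operator. -/
def kerOp (f : AddMonoid.End M) : AddSubgroup M := AddMonoidHom.ker (f : M →+ M)

/-- The image of an operator. -/
def imOp (f : AddMonoid.End M) : AddSubgroup M := AddMonoidHom.range (f : M →+ M)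

theorem mem_kerOp {f : AddMonoid.End M} {v : M} : v ∈ kerOp f ↔ f v = 0 := Iff.rfl

theorem mem_imOp {f : AddMonoid.End M} {v : M} : v ∈ imOp f ↔ ∃ u, f u = v := Iff.rfl

theorem card_kerOp_mul_imOp (f : AddMonoid.End M) :
    Nat.card (kerOp f) * Nat.card (imOp f) = Nat.card M := by
  rw [AddSubgroup.card_eq_card_quotient_mul_card_addSubgroup (kerOp f), mul_comm]
  exact congrArg (· * _) (Nat.card_congr (QuotientAddGroup.quotientKerEquivRange (f : M →+ M)).toEquiv.symm)

theorem imOp_le_kerOp {f g : AddMonoid.End M} (h : g * f = 0) : imOp f ≤ kerOp g := by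
  rintro _ ⟨u, rfl⟩
  exact DFunLike.congr_fun h u

theorem pow_two_mul_add_one_fixed {X : AddMonoid.End M} {v : M} (h : X (X v) = v) (k : ℕ) :
    (X ^ (2 * k + 1)) v = X v := by
  induction k with
  | zero => simp
  | succ k ih =>
    rw [show 2 * (k + 1) + 1 = (2 * k + 1) + 2 by ring, pow_add, sq]
    show (X ^ (2 * k + 1)) (X (X v)) = X v
    rw [h, ih]

theorem eq_of_sq_fixed {X : AddMonoid.End M} {m : ℕ} (hm : Odd m) (hX : X ^ m = 1) {v : M}
    (h : X (X v) = v) : X v = v := by
  obtain ⟨k, rfl⟩ := hm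
  have := pow_two_mul_add_one_fixed h k
  rw [hX] at this
  exact this.symm

theorem pow_fixed {X : AddMonoid.End M} {v : M} (h : X v = v) (k : ℕ) : (X ^ k) v = v := by
  induction k with
  | zero => simp
  | succ k ih => rw [pow_succ]; show (X ^ k) (X v) = v; rw [h, ih]

/-- An operator of odd order splits a group of exponent `2`. -/
theorem kerOp_inf_imOp_eq_bot (h2 : ∀ x : M, x + x = 0) {z : AddMonoid.End M} {m : ℕ} (hm : Odd m)
    (hz : z ^ m = 1) : kerOp (z - 1) ⊓ imOp (z - 1) = ⊥ := by
  rw [eq_bot_iff]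
  rintro w ⟨hw, u, hu⟩
  change (z - 1) u = w at hu
  have hzw : z w = w := sub_eq_zero.1 hw
  have hzu : z u = u + w := by rw [← hu]; show z u = u + (z u - u); abel
  have key : ∀ k : ℕ, (z ^ k) u = u + k • w := by
    intro k
    induction k with
    | zero => simp
    | succ k ih =>
      rw [pow_succ']
      show z ((z ^ k) u) = _
      rw [ih, map_add, map_nsmul, hzw, hzu, succ_nsmul']
      abel
  have h := key m
  rw [hz] at h
  obtain ⟨k, rfl⟩ := hm
  rw [AddSubgroup.mem_bot]
  have : (2 * k + 1) • w = w := by rw [succ_nsmul, mul_nsmul, two_nsmul, h2, smul_zero, zero_add]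
  rw [this] at h
  exact left_eq_add.1 h

theorem kerOp_sup_imOp_eq_top [Finite M] (h2 : ∀ x : M, x + x = 0) {z : AddMonoid.End M} {m : ℕ}
    (hm : Odd m) (hz : z ^ m = 1) (v : M) :
    ∃ r s : M, z r = r ∧ v = r + (z s - s) := by
  classical
  let f : kerOp (z - 1) × imOp (z - 1) → M := fun q => (q.1 : M) + q.2
  have hinj : Function.Injective f := by
    rintro ⟨r, s⟩ ⟨r', s'⟩ h
    have hmem : (r : M) - r' ∈ kerOp (z - 1) ⊓ imOp (z - 1) := by
      refine AddSubgroup.mem_inf.2 ⟨sub_mem r.2 r'.2, ?_⟩
      have : (r : M) - r' = (s' : M) - s := by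
        change (r : M) + s = r' + s' at h
        rw [eq_sub_iff_add_eq.2 h]
        abel
      rw [this]
      exact sub_mem s'.2 s.2
    rw [kerOp_inf_imOp_eq_bot h2 hm hz, AddSubgroup.mem_bot, sub_eq_zero] at hmem
    obtain rfl : r = r' := Subtype.ext hmem
    exact Prod.ext rfl (Subtype.ext (add_left_cancel h))
  have hbij := (Nat.bijective_iff_injective_and_card f).2
    ⟨hinj, by rw [Nat.card_prod, card_kerOp_mul_imOp]⟩
  obtain ⟨⟨⟨r, hr⟩, ⟨_, s, rfl⟩⟩, h⟩ := hbij.2 v
  exact ⟨r, s, sub_eq_zero.1 hr, h.symm⟩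

theorem imOp_pow_sub_one_le {z : AddMonoid.End M} (k : ℕ) : imOp (z ^ k - 1) ≤ imOp (z - 1) := by
  rintro _ ⟨u, rfl⟩
  refine ⟨(∑ i ∈ Finset.range k, z ^ i) u, ?_⟩
  change ((z - 1) * ∑ i ∈ Finset.range k, z ^ i) u = (z ^ k - 1) u
  rw [mul_geom_sum]

/-- The counting lemma. -/
theorem card_imOp_le_two [Finite M] (h2 : ∀ x : M, x + x = 0) {ι : Type*} [Fintype ι] [Nonempty ι]
    (β : ι → AddMonoid.End M) (α : AddMonoid.End M) (X Y : ι → AddMonoid.End M) (m : ι → ℕ)
    (hα : α * α = 1) (hαβ : ∀ i, Commute α (β i))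
    (hq : ∀ i j, (β i - 1) * (β j - 1) = 0) (hab : ∀ i, (α - 1) * (β i - 1) = 0)
    (hmul : ∀ i j, i ≠ j → ∃ l, β i * β j = β l) (hβ : ∀ i, β i * β i = 1)
    (hodd : ∀ i, Odd (m i)) (hX : ∀ i, X i ^ m i = 1) (hY : ∀ i, Y i ^ m i = 1)
    (hXY : ∀ i, Commute (X i) (Y i)) (hfpf : ∀ i v, X i v = v → v = 0)
    (hz : ∀ i, (α - 1) * (X i * Y i - 1) = 0) (haX : ∀ i, α * X i = Y i * α)
    (hbX : ∀ i, β i * X i * β i * X i = 1) (hbY : ∀ i, β i * Y i * β i * Y i = 1)
    (hne : ∀ i, α * β i ≠ 1)
    (hsize : Nat.card M ≤ Nat.card {v : M // ∀ i, β i v = v} * (2 * (Fintype.card ι + 1))) :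
    Nat.card (imOp (α - 1)) ≤ 2 := by
  classical
  let C : AddSubgroup M := ⨅ i, kerOp (β i - 1)
  have hCmem : ∀ v, v ∈ C ↔ ∀ i, β i v = v := fun v => by
    simp only [C, AddSubgroup.mem_iInf, mem_kerOp]
    exact forall_congr' fun i => sub_eq_zero
  have hCcard : Nat.card {v : M // ∀ i, β i v = v} = Nat.card C :=
    Nat.card_congr (Equiv.subtypeEquivRight fun v => (hCmem v).symm)
  have half : ∀ i, kerOp (β i - 1) = C ∧ imOp (β i - 1) = C ∧
      Nat.card M = Nat.card C * Nat.card C := by
    intro i
    set F := kerOp (β i - 1)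
    set R := imOp (β i - 1)
    have hRC : R ≤ C := le_iInf fun j => imOp_le_kerOp (hq j i)
    have hCF : C ≤ F := iInf_le _ i
    let g : F × F → M := fun q => (q.1 : M) + X i q.2
    have hg : Function.Injective g := by
      rintro ⟨u, v⟩ ⟨u', v'⟩ h
      have hw : ((v : M) - v') ∈ F := sub_mem v.2 v'.2
      have hXw : X i ((v : M) - v') ∈ F := by
        have : X i ((v : M) - v') = (u' : M) - u := by
          change (u : M) + X i v = u' + X i v' at h
          rw [map_sub, sub_eq_sub_iff_add_eq_add, add_comm, h]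
        rw [this]
        exact sub_mem u'.2 u.2
      set w := (v : M) - v'
      have h1 : β i w = w := sub_eq_zero.1 hw
      have h3 : β i (X i w) = X i w := sub_eq_zero.1 hXw
      have h4 : β i (X i (β i (X i w))) = w := DFunLike.congr_fun (hbX i) w
      rw [h3] at h4
      have h5 : X i (X i w) = w := by
        have h6 : β i (β i (X i (X i w))) = X i (X i w) := DFunLike.congr_fun (hβ i) _
        rw [h4, h1] at h6
        exact h6.symm
      have h7 : v = v' := Subtype.ext (sub_eq_zero.1 (hfpf i w (eq_of_sq_fixed (hodd i) (hX i) h5)))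
      subst h7
      exact Prod.ext (Subtype.ext (add_right_cancel h)) rfl
    have hle : Nat.card F * Nat.card F ≤ Nat.card M := by
      rw [← Nat.card_prod]
      exact Nat.card_le_card_of_injective g hg
    have hFR : Nat.card F ≤ Nat.card R :=
      Nat.le_of_mul_le_mul_left (hle.trans (card_kerOp_mul_imOp _).ge) Nat.card_pos
    have hRF : R = F := AddSubgroup.eq_of_le_of_card_ge (hRC.trans hCF) hFR
    have hC : F = C := le_antisymm (hRF.symm.le.trans hRC) hCF
    refine ⟨hC, hRF.trans hC, ?_⟩
    rw [← card_kerOp_mul_imOp (β i - 1)]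
    change Nat.card F * Nat.card R = _
    rw [hRF, hC]
  obtain ⟨i0⟩ := ‹Nonempty ι›
  have hM := (half i0).2.2
  set c := Nat.card C with hc
  have hc0 : 0 < c := Nat.card_pos
  have hcn : c ≤ 2 * (Fintype.card ι + 1) := by
    rw [hCcard, hM] at hsize
    exact Nat.le_of_mul_le_mul_left hsize hc0
  set Na := α - 1 with hNa
  have hNaNa : Na * Na = 0 := by
    refine AddMonoidHom.ext fun v => ?_
    show α (α v - v) - (α v - v) = 0
    rw [map_sub, show α (α v) = v from DFunLike.congr_fun hα v]
    calc v - α v - (α v - v) = (v + v) - (α v + α v) := by abel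
      _ = 0 := by rw [h2, h2, sub_zero]
  have hNc : ∀ i, α * β i - 1 = Na + (β i - 1) := fun i => by
    have := hab i
    rw [sub_mul, mul_sub, mul_one, one_mul] at this
    rw [eq_add_of_sub_eq (sub_eq_zero.1 this)]
    simp only [hNa]
    abel
  have hNaC : imOp Na ≤ C := le_iInf fun i => imOp_le_kerOp (by
    rw [((Commute.sub_left (hαβ i) (Commute.one_left _)).sub_right (Commute.one_right _)).symm.eq]
    exact hab i)
  -- the images of `α - 1` and `αβ - 1` meet trivially inside `C`
  have hprod : ∀ i, Nat.card (imOp Na) * Nat.card (imOp (α * β i - 1)) ≤ c := by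
    intro i
    have hm := hodd i
    obtain ⟨l, hl⟩ : ∃ l, m i = l + 1 := ⟨m i - 1, by rcases hm with ⟨k, hk⟩; omega⟩
    set z := X i * Y i with hz0
    have hzm : z ^ m i = 1 := by rw [hz0, (hXY i).mul_pow, hX i, hY i, one_mul]
    have hbXc : β i * X i = X i ^ l * β i := by
      have h := hbX i
      calc β i * X i = β i * X i * (β i * (X i * X i ^ l)) * β i := by
            rw [← pow_succ', ← hl, hX i, mul_one, mul_assoc (β i * X i), hβ i, mul_one]
        _ = (β i * X i * β i * X i) * X i ^ l * β i := by simp only [mul_assoc]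
        _ = _ := by rw [h, one_mul]
    have hbYc : β i * Y i = Y i ^ l * β i := by
      have h := hbY i
      calc β i * Y i = β i * Y i * (β i * (Y i * Y i ^ l)) * β i := by
            rw [← pow_succ', ← hl, hY i, mul_one, mul_assoc (β i * Y i), hβ i, mul_one]
        _ = (β i * Y i * β i * Y i) * Y i ^ l * β i := by simp only [mul_assoc]
        _ = _ := by rw [h, one_mul]
    have haY : α * Y i = X i * α := by
      calc α * Y i = α * Y i * (α * α) := by rw [hα, mul_one]
        _ = α * (Y i * α) * α := by simp only [mul_assoc]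
        _ = _ := by rw [← haX i, ← mul_assoc α α, hα, one_mul]
    have haz : Commute α z := by
      show α * z = z * α
      rw [hz0, ← mul_assoc, haX i, mul_assoc, haY, ← mul_assoc, (hXY i).eq]
    set cc := α * β i with hcc
    have hcz : cc * z = z ^ l * cc := by
      calc cc * z = α * (β i * X i) * Y i := by simp only [hcc, hz0, mul_assoc]
        _ = α * X i ^ l * (β i * Y i) := by rw [hbXc]; simp only [mul_assoc]
        _ = α * (X i ^ l * Y i ^ l) * β i := by rw [hbYc]; simp only [mul_assoc]
        _ = α * z ^ l * β i := by rw [hz0, (hXY i).mul_pow]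
        _ = z ^ l * cc := by rw [(haz.pow_right l).eq, hcc, mul_assoc]
    have hcX : cc * X i = Y i ^ l * cc := by
      calc cc * X i = α * X i ^ l * β i := by rw [hcc, mul_assoc, hbXc, mul_assoc]
        _ = Y i ^ l * cc := by
          have : SemiconjBy α (X i) (Y i) := haX i
          rw [(this.pow_right l).eq, hcc, mul_assoc]
    have hfix : ∀ r, z r = r → z (cc r) = cc r := by
      intro r hr
      have h0 : (z ^ l) (cc r) = cc r := by
        have := DFunLike.congr_fun hcz r
        change cc (z r) = (z ^ l) (cc r) at this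
        rw [hr] at this
        exact this.symm
      have h1 : (z ^ l) (z (cc r)) = cc r := by
        show (z ^ l * z) (cc r) = cc r
        rw [← pow_succ, ← hl, hzm]; rfl
      have h1' : z ((z ^ l) (cc r)) = cc r := by
        show (z * z ^ l) (cc r) = cc r
        rw [← pow_succ', ← hl, hzm]; rfl
      rwa [h0] at h1'
    have hvan : ∀ r, z r = r → cc r = r := by
      intro r hr
      have hXr : z (X i r) = X i r := by
        show (z * X i) r = X i r
        rw [show z * X i = X i * z by rw [hz0, mul_assoc, ← (hXY i).eq]]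
        show X i (z r) = X i r
        rw [hr]
      have key : ∀ s, z s = s → (Y i ^ l) s = X i s := by
        intro s hs
        have h1 : Y i (X i s) = s := by
          show (Y i * X i) s = s
          rw [← (hXY i).eq]; exact hs
        calc (Y i ^ l) s = (Y i ^ l * Y i) (X i s) := by
              show _ = (Y i ^ l) (Y i (X i s)); rw [h1]
          _ = X i s := by rw [← pow_succ, ← hl, hY i]; rfl
      have hcomm : cc (X i r) = X i (cc r) := by
        have := DFunLike.congr_fun hcX r
        change cc (X i r) = (Y i ^ l) (cc r) at this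
        rw [this, key _ (hfix r hr)]
      set w := cc r - r with hw
      have haw : ∀ s, α (cc s - s) = cc s - s := by
        intro s
        refine sub_eq_zero.1 ?_
        show (Na * (cc - 1)) s = 0
        rw [hNc i, mul_add, hNaNa, hNa, hab i, add_zero]; rfl
      have h1 : α (X i w) = X i w := by
        rw [hw, map_sub, ← hcomm]; exact haw _
      have h2' : α (X i w) = Y i w := by
        rw [show α (X i w) = Y i (α w) from DFunLike.congr_fun (haX i) w, haw r]
      have hzw : z w = w := by rw [hw, map_sub, hfix r hr, hr]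
      have h5 : X i (X i w) = w := by
        conv_rhs => rw [← hzw]
        show X i (X i w) = X i (Y i w)
        rw [← h2', h1]
      exact sub_eq_zero.1 (hfpf i w (eq_of_sq_fixed hm (hX i) h5))
    have hA : imOp Na ≤ kerOp (z - 1) := by
      rintro _ ⟨v, rfl⟩
      obtain ⟨r, s, hr, rfl⟩ := kerOp_sup_imOp_eq_top h2 hm hzm v
      change Na (r + (z s - s)) ∈ _
      rw [map_add, show Na (z s - s) = 0 from DFunLike.congr_fun (hz i) s, add_zero]
      rw [mem_kerOp]
      show z (α r - r) - (α r - r) = 0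
      rw [map_sub, hr, show z (α r) = α (z r) from (DFunLike.congr_fun haz.eq r).symm, hr, sub_self]
    have hB : imOp (cc - 1) ≤ imOp (z - 1) := by
      rintro _ ⟨v, rfl⟩
      obtain ⟨r, s, hr, rfl⟩ := kerOp_sup_imOp_eq_top h2 hm hzm v
      change cc (r + (z s - s)) - (r + (z s - s)) ∈ _
      rw [map_add, hvan r hr, map_sub, show cc (z s) = (z ^ l) (cc s) from DFunLike.congr_fun hcz s]
      have h1 : (z ^ l) (cc s) - cc s ∈ imOp (z - 1) := imOp_pow_sub_one_le l ⟨cc s, rfl⟩
      have h3 : z s - s ∈ imOp (z - 1) := ⟨s, rfl⟩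
      convert sub_mem h1 h3 using 1
      abel
    have hdisj : Disjoint (imOp Na) (imOp (cc - 1)) :=
      disjoint_iff.2 (le_bot_iff.1 ((inf_le_inf hA hB).trans (kerOp_inf_imOp_eq_bot h2 hm hzm).le))
    let f : imOp Na × imOp (cc - 1) → C := fun q => ⟨(q.1 : M) + q.2, add_mem (hNaC q.1.2) (by
      obtain ⟨v, hv⟩ := q.2.2
      rw [← hv, hNc i]
      exact add_mem (hNaC ⟨v, rfl⟩) ((half i).2.1 ▸ (⟨v, rfl⟩ : (β i - 1) v ∈ imOp (β i - 1))))⟩
    rw [← Nat.card_prod]
    exact Nat.card_le_card_of_injective f fun q q' h => AddSubgroup.disjoint_iff_add_eq_zero.1 hdisj |>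
      fun hd => by
        have h' : ((q.1 : M) - q'.1) + ((q.2 : M) - q'.2) = 0 := by
          rw [sub_add_sub_comm, sub_eq_zero]; exact congrArg Subtype.val h
        obtain ⟨e1, e2⟩ := hd (sub_mem q.1.2 q'.1.2) (sub_mem q.2.2 q'.2.2) h'
        exact Prod.ext (Subtype.ext (sub_eq_zero.1 e1)) (Subtype.ext (sub_eq_zero.1 e2))
  set h := Nat.card (imOp Na) with hh
  letI := Fintype.ofFinite M
  let S : ι → Finset M := fun i => Finset.univ.filter fun v => (α * β i - 1) v = 0 ∧ v ∉ C
  have hSle : ∀ i, c * h ≤ (S i).card + c := by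
    intro i
    set k := Nat.card (imOp (α * β i - 1)) with hk
    have hk0 : 0 < k := Nat.card_pos
    have hker : Nat.card (kerOp (α * β i - 1)) * k = c * c := by rw [hk, card_kerOp_mul_imOp, hM]
    have h1 : c * h ≤ Nat.card (kerOp (α * β i - 1)) := by
      refine Nat.le_of_mul_le_mul_right ?_ hk0
      rw [hker, mul_assoc]
      exact Nat.mul_le_mul_left c (hprod i)
    refine h1.trans ?_
    rw [hc, Nat.card_eq_fintype_card, Nat.card_eq_fintype_card, Fintype.card_subtype,
      Fintype.card_subtype]
    refine le_trans (Finset.card_le_card ?_) (Finset.card_union_le _ _)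
    intro v hv
    simp only [S, Finset.mem_union, Finset.mem_filter, Finset.mem_univ, true_and] at hv ⊢
    by_cases hvC : v ∈ C
    · exact Or.inr hvC
    · exact Or.inl ⟨hv, hvC⟩
  have hdis : (↑(Finset.univ : Finset ι) : Set ι).PairwiseDisjoint S := by
    intro i _ j _ hij
    rw [Function.onFun, Finset.disjoint_left]
    intro v hvi hvj
    simp only [S, Finset.mem_filter] at hvi hvj
    obtain ⟨l, hl⟩ := hmul i j hij
    refine hvi.2.2 ((half l).1 ▸ sub_eq_zero.2 ?_)
    have hij' : α (β i v) = α (β j v) := (sub_eq_zero.1 hvi.2.1).trans (sub_eq_zero.1 hvj.2.1).symm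
    have e : β i v = β j v := by
      have := congrArg α hij'
      rwa [show α (α (β i v)) = β i v from DFunLike.congr_fun hα _,
        show α (α (β j v)) = β j v from DFunLike.congr_fun hα _] at this
    rw [← hl]
    show β i (β j v) = v
    rw [← e, show β i (β i v) = v from DFunLike.congr_fun (hβ i) v]
  have htot : (∑ i, (S i).card) + c ≤ c * c := by
    rw [← Finset.card_biUnion hdis, hc, Nat.card_eq_fintype_card, Fintype.card_subtype,
      ← Finset.card_union_of_disjoint]
    · calc _ ≤ (Finset.univ : Finset M).card := Finset.card_le_univ _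
        _ = _ := by rw [Finset.card_univ, ← Fintype.card_subtype, ← Nat.card_eq_fintype_card,
                      ← Nat.card_eq_fintype_card, hM]
    · rw [Finset.disjoint_left]
      intro v hv hv'
      simp only [S, Finset.mem_biUnion, Finset.mem_filter] at hv hv'
      exact hv.choose_spec.2.2.2 hv'.2
  have hsum : Fintype.card ι * (c * h) ≤ (∑ i, (S i).card) + Fintype.card ι * c := by
    have := Finset.sum_le_sum (s := Finset.univ) fun i _ => hSle i
    simpa [Finset.sum_add_distrib] using this
  have hk2 : 2 ≤ Nat.card (imOp (α * β i0 - 1)) := by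
    by_contra hlt
    have hbot : imOp (α * β i0 - 1) = ⊥ :=
      AddSubgroup.eq_bot_of_card_le _ (by omega)
    refine hne i0 (sub_eq_zero.1 (AddMonoidHom.ext fun v => ?_))
    exact AddSubgroup.mem_bot.1 (hbot ▸ ⟨v, rfl⟩)
  have hh2 : h * 2 ≤ c := (Nat.mul_le_mul_left h hk2).trans (hprod i0)
  have h3 : h ≠ 3 := by
    intro h3
    haveI : Fact (Nat.Prime 3) := ⟨Nat.prime_three⟩
    obtain ⟨u, hu⟩ := exists_prime_addOrderOf_dvd_card' (G := imOp Na) 3 (by rw [← hh, h3])
    have := addOrderOf_dvd_of_nsmul_eq_zero (n := 2) (x := u)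
      (Subtype.ext (by simp [two_nsmul, h2]))
    rw [hu] at this
    omega
  by_contra hgt
  have h4 : 4 ≤ h := by omega
  have hkey : Fintype.card ι * h + 1 ≤ c + Fintype.card ι :=
    Nat.le_of_mul_le_mul_left (show c * (Fintype.card ι * h + 1) ≤ c * (c + Fintype.card ι) by
      nlinarith [hsum, htot]) hc0
  have h5 : Fintype.card ι * 4 ≤ Fintype.card ι * h := Nat.mul_le_mul_left _ h4
  omega

end CfsgLib.PGV
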