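/-
A component moved by an element: criteria forcing it to act trivially.
-/
import Cfsg.Agent.PGV.Basic

set_option autoImplicit false

namespace CfsgLib.PGV

open Subgroup
open scoped commutatorElement

variable {H M : Type*} [Group H] [AddCommGroup M]
variable {σ : H →* AddMonoid.End M} {K : Subgroup H}

theorem Comp.commute_conj (hK : Comp K) {e f : H} (h : e⁻¹ * f ∉ normalizer (K : Set H))
    {g k : H} (hg : g ∈ K) (hk : k ∈ K) : Commute (e * g * e⁻¹) (f * k * f⁻¹) := by
  have h1 := (Commute.conj_iff e).2 (hK.comm _ h g hg k hk)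
  have h2 : e * (e⁻¹ * f * k * (e⁻¹ * f)⁻¹) * e⁻¹ = f * k * f⁻¹ := by group
  rwa [h2] at h1

theorem Comp.mul_noncentral (_hK : Comp K) {g u : H}
    (hg : g ∈ centralizer (K : Set H)) (hu : u ∉ centralizer (K : Set H)) :
    g * u ∉ centralizer (K : Set H) := fun h => hu (by simpa using mul_mem (inv_mem hg) h)

/-- The subgroup of elements commuting with `g`, `g'` after which these two agree. -/
def agreeSubgroup (σ : H →* AddMonoid.End M) (g g' : H) : Subgroup H where
  carrier := {x | Commute g x ∧ Commute g' x ∧ σ g' * opd σ x = σ g * opd σ x}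
  one_mem' := ⟨Commute.one_right _, Commute.one_right _, by simp [opd]⟩
  mul_mem' := fun {x y} hx hy => ⟨hx.1.mul_right hy.1, hx.2.1.mul_right hy.2.1, by
    rw [opd_mul, mul_add, mul_add, hx.2.2, ← mul_assoc (σ g'), (hx.2.1.map σ).eq,
      mul_assoc (σ x), hy.2.2, ← mul_assoc (σ g), (hx.1.map σ).eq, mul_assoc (σ x)]⟩
  inv_mem' := fun {x} hx => ⟨hx.1.inv_right, hx.2.1.inv_right, by
    rw [opd_inv, mul_neg, mul_neg, ← mul_assoc (σ g'), ((hx.2.1.inv_right).map σ).eq,
      mul_assoc, hx.2.2, ← mul_assoc, ← ((hx.1.inv_right).map σ).eq, mul_assoc]⟩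

theorem conj_mem_agreeSubgroup {g g' x k : H} (hx : x ∈ agreeSubgroup σ g g') (hg : Commute g k)
    (hg' : Commute g' k) : k * x * k⁻¹ ∈ agreeSubgroup σ g g' := by
  refine ⟨(hg.mul_right hx.1).mul_right hg.inv_right, (hg'.mul_right hx.2.1).mul_right hg'.inv_right, ?_⟩
  have h : opd σ (k * x * k⁻¹) = σ k * opd σ x * σ k⁻¹ := by
    simp [opd, mul_sub, sub_mul, σ_mul_inv]
  rw [h, ← mul_assoc, ← mul_assoc, (hg'.map σ).eq, mul_assoc (σ k), hx.2.2,
    ← mul_assoc (σ g), ← mul_assoc (σ g), (hg.map σ).eq, mul_assoc (σ k)]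
  simp only [mul_assoc]

/-- The third component lemma. -/
theorem cross_of_third (hK : Comp K) {a f : H} (ha : a ∉ normalizer (K : Set H))
    (hf : f ∉ normalizer (K : Set H)) (haf : a⁻¹ * f ∉ normalizer (K : Set H))
    (hz : ∀ g ∈ K, g ∉ centralizer (K : Set H) → ∃ z r k' : H, k' ∈ K ∧
      k' ∉ centralizer (K : Set H) ∧ z = r * (f * k' * f⁻¹) ∧
      (∀ k ∈ K, Commute r (f * k * f⁻¹)) ∧ Commute z a ∧ Commute z g ∧
      opd σ a * opd σ z = 0) :
    ∀ g ∈ K, ∀ h ∈ K, opd σ g * opd σ (f * h * f⁻¹) = 0 := by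
  have hgh : ∀ g ∈ K, ∀ h ∈ K, Commute g (f * h * f⁻¹) := fun g hg h hh => hK.comm f hf g hg h hh
  have hg1h : ∀ g ∈ K, ∀ h ∈ K, Commute (a * g * a⁻¹) (f * h * f⁻¹) :=
    fun g hg h hh => hK.commute_conj haf hg hh
  have main : ∀ g ∈ K, g ∉ centralizer (K : Set H) → ∀ h ∈ K,
      f * h * f⁻¹ ∈ agreeSubgroup σ g (a * g * a⁻¹) := by
    intro g hg hgc
    obtain ⟨z, r, k', hk', hk'c, hzr, hr, hza, hzg, hNN⟩ := hz g hg hgc
    have hzmem : z ∈ agreeSubgroup σ g (a * g * a⁻¹) := by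
      refine ⟨hzg.symm, ((hza.mul_right hzg).mul_right hza.inv_right).symm, agree_of_fixed ?_ (commute_opd hzg.symm)⟩
      rw [← sub_eq_zero]
      simpa [opd, sub_mul] using hNN
    intro h hh
    let X : Subgroup H := (agreeSubgroup σ g (a * g * a⁻¹)).comap (MulAut.conj f).toMonoidHom
    refine hK.gen k'⁻¹ (le_normalizer (inv_mem hk')) (fun hc => hk'c (by simpa using inv_mem hc)) X
      ?_ hh
    intro k hk
    have hmem := mul_mem (inv_mem hzmem) (conj_mem_agreeSubgroup hzmem (hgh g hg k hk) (hg1h g hg k hk))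
    have he : z⁻¹ * ((f * k * f⁻¹) * z * (f * k * f⁻¹)⁻¹) = f * ⁅k'⁻¹, k⁆ * f⁻¹ := by
      have hrk := (hr k hk).inv_left.eq
      calc z⁻¹ * ((f * k * f⁻¹) * z * (f * k * f⁻¹)⁻¹)
          = (f * k' * f⁻¹)⁻¹ * (r⁻¹ * (f * k * f⁻¹)) * r * (f * k' * f⁻¹) * (f * k * f⁻¹)⁻¹ := by
            rw [hzr]; group
        _ = (f * k' * f⁻¹)⁻¹ * ((f * k * f⁻¹) * r⁻¹) * r * (f * k' * f⁻¹) * (f * k * f⁻¹)⁻¹ := by
            rw [hrk]
        _ = f * ⁅k'⁻¹, k⁆ * f⁻¹ := by rw [commutatorElement_def]; group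
    rw [he] at hmem
    exact hmem
  obtain ⟨u, hu, huc⟩ := hK.nonabelian
  have huc' : u⁻¹ ∉ centralizer (K : Set H) := fun hc => huc (by simpa using inv_mem hc)
  intro g hg h hh
  refine opd_mul_eq_zero_of_agree hK ha (fun x hx => commute_opd (hgh x hx h hh)) ?_ g hg
  intro g hg
  by_cases hgc : g ∈ centralizer (K : Set H)
  · have h1 := (main (g * u) (mul_mem hg hu) (hK.mul_noncentral hgc huc) h hh).2.2
    have h2 := (main u⁻¹ (inv_mem hu) huc' h hh).2.2
    have hN : ∀ x ∈ K, Commute (σ x) (opd σ (f * h * f⁻¹)) :=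
      fun x hx => commute_opd (hgh x hx h hh)
    calc σ (a * g * a⁻¹) * opd σ (f * h * f⁻¹)
        = σ (a * (g * u) * a⁻¹) * (σ (a * u⁻¹ * a⁻¹) * opd σ (f * h * f⁻¹)) := by
          rw [← mul_assoc, ← map_mul]; congr 2; group
      _ = σ (a * (g * u) * a⁻¹) * (opd σ (f * h * f⁻¹) * σ u⁻¹) := by
          rw [h2, (hN _ (inv_mem hu)).eq]
      _ = σ (g * u) * (σ u⁻¹ * opd σ (f * h * f⁻¹)) := by
          rw [← mul_assoc, h1, mul_assoc, (hN _ (inv_mem hu)).eq]
      _ = σ g * opd σ (f * h * f⁻¹) := by rw [← mul_assoc, ← map_mul, mul_inv_cancel_right]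
  · exact (main g hg hgc h hh).2.2

theorem pow_two_mul_eq_one {R : Type*} [Ring R] {n : R} (hn : n * n * n = 0) {p : ℕ}
    (hp : (p : R) = 0) : (1 + n) ^ (2 * p) = 1 := by
  have key : ∀ k : ℕ, (1 + n) ^ k = 1 + (k : R) * n + (k.choose 2 : ℕ) * (n * n) := by
    intro k
    induction k with
    | zero => simp
    | succ k ih =>
      rw [pow_succ, ih, Nat.choose_succ_succ, Nat.choose_one_right]
      push_cast
      simp only [mul_add, add_mul, one_mul, mul_one]
      rw [mul_assoc ((k.choose 2 : ℕ) : R) (n * n) n, hn, mul_zero, mul_assoc]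
      abel
  have hc : ((2 * p).choose 2 : ℕ) = p * (2 * p - 1) := by
    rw [Nat.choose_two_right, mul_assoc, Nat.mul_div_cancel_left _ two_pos]
  rw [key, hc]
  simp [hp]

/-- The last step when the other components kill the commutator space of `K`. -/
theorem trivial_of_cross [Finite H] (hK : Comp K) {p : ℕ} [hp : Fact p.Prime]
    (hp0 : (p : AddMonoid.End M) = 0) {a : H} (ha : a ∉ normalizer (K : Set H))
    (hx : ∀ g ∈ K, opd σ g * opd σ (a * g * a⁻¹) = 0)
    (hz : ∀ g ∈ K, ∃ z r : H, z = g * r ∧ Commute z a ∧ Commute z g ∧ opd σ a * opd σ z = 0 ∧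
      σ r * opd σ g = opd σ g) : ∀ g ∈ K, σ g = 1 := by
  refine trivial_of_pow_central hK.perfect (i := 1) (j := 1) hp.out fun g hg k _ => ?_
  obtain ⟨z, r, hzr, hza, hzg, hNN, hr⟩ := hz g hg
  have h1 : σ (a * g * a⁻¹) * opd σ z = σ g * opd σ z := by
    refine agree_of_fixed ?_ (commute_opd hzg.symm)
    rw [← sub_eq_zero]
    simpa [opd, sub_mul] using hNN
  have hc : Commute g (a * g * a⁻¹) := hK.comm a ha g hg g hg
  have hzN : opd σ z * opd σ g = opd σ g * opd σ g := by
    rw [hzr, opd_mul, add_mul]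
    have : opd σ r * opd σ g = 0 := by rw [opd, sub_mul, one_mul, hr, sub_self]
    rw [mul_assoc, this, mul_zero, zero_add]
  have h2 : (opd σ (a * g * a⁻¹) - opd σ g) * (opd σ g * opd σ g) = 0 := by
    rw [← hzN, ← mul_assoc]
    simp only [opd, sub_sub_sub_cancel_right]
    rw [show (σ (a * g * a⁻¹) - σ g) * (σ z - 1) = 0 by
      have := sub_eq_zero.2 h1
      rwa [← sub_mul] at this]
    rw [zero_mul]
  have h3 : opd σ g * opd σ g * opd σ g = 0 := by
    rw [sub_mul, ← mul_assoc, (commute_opd_opd hc.symm).eq, hx g hg, zero_mul, zero_sub,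
      neg_eq_zero, ← mul_assoc] at h2
    exact h2
  have h4 : σ (g ^ (2 ^ 1 * p ^ 1)) = 1 := by
    rw [map_pow, pow_one, pow_one, show σ g = 1 + opd σ g by simp [opd]]
    exact pow_two_mul_eq_one h3 hp0
  rw [h4]
  exact Commute.one_left _

/-- For odd `p`, an element acting quadratically and moving `K` kills it. -/
theorem trivial_of_quadratic_odd (hK : Comp K) {m : ℕ}
    (hp0 : ((2 * m + 1 : ℕ) : AddMonoid.End M) = 0) {a : H} (ha : a ∉ normalizer (K : Set H))
    (hq : opd σ a * opd σ a = 0) : ∀ g ∈ K, σ g = 1 := by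
  set N := opd σ a with hN
  have ha1 : σ a = 1 + N := by simp [hN, opd]
  have ha2 : σ a⁻¹ = 1 - N := by
    calc σ a⁻¹ = σ a⁻¹ * ((1 + N) * (1 - N)) := by
          rw [show (1 + N) * (1 - N) = 1 by simp [mul_sub, add_mul, hq], mul_one]
      _ = 1 - N := by rw [← ha1, ← mul_assoc, σ_inv_mul, one_mul]
  have ha' : a⁻¹ ∉ normalizer (K : Set H) := fun h => ha (inv_mem_iff.1 h)
  set δ : H → AddMonoid.End M := fun g => N * σ g - σ g * N with hδ
  have hcomm : ∀ g ∈ K, ∀ k ∈ K, Commute (σ k) (δ g) := by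
    intro g hg k hk
    have h1 : Commute (σ k) (σ (a * g * a⁻¹)) := (hK.comm a ha k hk g hg).map σ
    have h2 : Commute (σ k) (σ (a⁻¹ * g * a⁻¹⁻¹)) := (hK.comm a⁻¹ ha' k hk g hg).map σ
    have h3 := h1.sub_right h2
    have he : σ (a * g * a⁻¹) - σ (a⁻¹ * g * a⁻¹⁻¹) = δ g + δ g := by
      simp only [inv_inv, map_mul, ha1, ha2, hδ]
      simp only [add_mul, mul_add, sub_mul, mul_sub, one_mul, mul_one]
      abel
    rw [he, ← two_mul] at h3
    have h4 := (Nat.cast_commute (m + 1) (σ k)).symm.mul_right h3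
    have he2 : ((m + 1 : ℕ) : AddMonoid.End M) * (2 * δ g) = δ g := by
      rw [← mul_assoc, show ((m + 1 : ℕ) : AddMonoid.End M) * 2 = ((m + 1) * 2 : ℕ) by push_cast; rfl,
        show (m + 1) * 2 = (2 * m + 1) + 1 by ring, Nat.cast_add, hp0, zero_add, Nat.cast_one, one_mul]
    rwa [he2] at h4
  have hmul : ∀ g h, δ (g * h) = δ g * σ h + σ g * δ h := fun g h => by
    simp only [hδ, map_mul, sub_mul, mul_sub, mul_assoc]
    abel
  have main : ∀ g ∈ K, g ∉ centralizer (K : Set H) → ∀ k ∈ K, σ k * δ g = δ g := by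
    intro g hg hgc
    have hkg : ∀ k ∈ K, σ (k * g) * δ g = σ (g * k) * δ g := by
      intro k hk
      have h1 : Commute (σ k) (δ (g * g)) := hcomm _ (mul_mem hg hg) k hk
      have h0 : δ (g * g) = 2 * (σ g * δ g) := by
        rw [hmul, two_mul, (hcomm g hg g hg).eq]
      rw [h0] at h1
      have h4 := (Nat.cast_commute (m + 1) (σ k)).symm.mul_right h1
      have he2 : ((m + 1 : ℕ) : AddMonoid.End M) * (2 * (σ g * δ g)) = σ g * δ g := by
        rw [← mul_assoc, show ((m + 1 : ℕ) : AddMonoid.End M) * 2 = ((m + 1) * 2 : ℕ) by push_cast; rfl,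
          show (m + 1) * 2 = (2 * m + 1) + 1 by ring, Nat.cast_add, hp0, zero_add, Nat.cast_one, one_mul]
      rw [he2] at h4
      calc σ (k * g) * δ g = σ k * (σ g * δ g) := by rw [map_mul, mul_assoc]
        _ = σ g * δ g * σ k := h4.eq
        _ = σ (g * k) * δ g := by rw [map_mul, mul_assoc, mul_assoc, (hcomm g hg k hk).eq]
    let X : Subgroup H :=
      { carrier := {x | σ x * δ g = δ g}
        one_mem' := by simp
        mul_mem' := fun {x y} hx hy => by
          show σ (x * y) * δ g = δ g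
          rw [map_mul, mul_assoc, hy, hx]
        inv_mem' := fun {x} hx => by
          show σ x⁻¹ * δ g = δ g
          conv_lhs => rw [← (show σ x * δ g = δ g from hx)]
          rw [← mul_assoc, σ_inv_mul, one_mul] }
    intro k hk
    refine hK.gen g (le_normalizer hg) hgc X ?_ hk
    intro k hk
    have hc : Commute (σ (g⁻¹ * k⁻¹)) (δ g) := hcomm g hg _ (mul_mem (inv_mem hg) (inv_mem hk))
    show σ ⁅g, k⁆ * δ g = δ g
    calc σ ⁅g, k⁆ * δ g = σ (g * k) * (σ (g⁻¹ * k⁻¹) * δ g) := by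
          rw [← mul_assoc, ← map_mul, commutatorElement_def]; congr 2; group
      _ = σ (k * g) * δ g * σ (g⁻¹ * k⁻¹) := by rw [hc.eq, ← mul_assoc, hkg k hk]
      _ = δ g := by
          rw [mul_assoc, ← hc.eq, ← mul_assoc, ← map_mul,
            show k * g * (g⁻¹ * k⁻¹) = 1 by group, map_one, one_mul]
  obtain ⟨u, hu, huc⟩ := hK.nonabelian
  have hfix : ∀ g ∈ K, ∀ k ∈ K, σ k * δ g = δ g := by
    intro g hg k hk
    by_cases hgc : g ∈ centralizer (K : Set H)
    · have huc' : u⁻¹ ∉ centralizer (K : Set H) := fun hc => huc (by simpa using inv_mem hc)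
      have h1 := main _ (mul_mem hg hu) (hK.mul_noncentral hgc huc) k hk
      have h2 := main _ (inv_mem hu) huc'
      have e : δ g = δ (g * u) * σ u⁻¹ + σ (g * u) * δ u⁻¹ := by
        rw [← hmul, mul_inv_cancel_right]
      rw [e, mul_add, ← mul_assoc, h1, h2 _ (mul_mem hg hu), h2 k hk]
    · exact main g hg hgc k hk
  have hadd : ∀ g ∈ K, ∀ h ∈ K, δ (g * h) = δ g + δ h := fun g hg h hh => by
    rw [hmul, ← (hcomm g hg h hh).eq, hfix g hg h hh, hfix h hh g hg]
  let S : Subgroup H :=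
    { carrier := {x | x ∈ K ∧ δ x = 0}
      one_mem' := ⟨one_mem K, by simp [hδ]⟩
      mul_mem' := fun {x y} hx hy => ⟨mul_mem hx.1 hy.1, by rw [hadd x hx.1 y hy.1, hx.2, hy.2, add_zero]⟩
      inv_mem' := fun {x} hx => ⟨inv_mem hx.1, by
        have := hadd x hx.1 x⁻¹ (inv_mem hx.1)
        rw [mul_inv_cancel, show δ 1 = 0 by simp [hδ], hx.2, zero_add] at this
        exact this.symm⟩ }
  have hS : K ≤ S := by
    conv_lhs => rw [← hK.perfect]
    rw [commutator_le]
    intro g hg h hh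
    have hc : ⁅g, h⁆ ∈ K := by
      rw [← hK.perfect]; exact commutator_mem_commutator hg hh
    refine ⟨hc, ?_⟩
    have h1 := hadd _ hc _ (mul_mem hh hg)
    rw [show ⁅g, h⁆ * (h * g) = g * h by rw [commutatorElement_def]; group, hadd g hg h hh,
      hadd h hh g hg, add_comm (δ h) (δ g), right_eq_add] at h1
    exact h1
  refine trivial_of_commute hK.perfect fun g hg k hk => ?_
  have hg0 : N * σ g = σ g * N := sub_eq_zero.1 (hS hg).2
  have h1 : σ (a * g * a⁻¹) = σ g := by
    rw [map_mul, map_mul, ha1, add_mul, one_mul, hg0, ← mul_one_add, ← ha1, mul_assoc, σ_mul_inv,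
      mul_one]
  have h2 := ((hK.comm a ha k hk g hg).map σ).symm
  rwa [h1] at h2

/-- Two involutory operators with images of order at most `2` have a product of order dividing `12`. -/
theorem pow_twelve_eq_one {N P : AddMonoid.End M} (h2 : ∀ x : AddMonoid.End M, x + x = 0)
    (hN : N * N = 0) (hP : P * P = 0) (hw : ∃ w, ∀ v, P v = 0 ∨ P v = w)
    (hu : ∃ u, ∀ v, N v = 0 ∨ N v = u) : ((1 + N) * (1 + P)) ^ 12 = 1 := by
  have two : (2 : AddMonoid.End M) = 0 := by rw [← one_add_one_eq_two]; exact h2 1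
  have dich : ∀ (A B : AddMonoid.End M), (∃ w, ∀ v, A v = 0 ∨ A v = w) →
      A * B * A = A ∨ A * B * A = 0 := by
    rintro A B ⟨w, hw⟩
    rcases hw (B w) with h | h
    · refine Or.inr (AddMonoidHom.ext fun v => ?_)
      show A (B (A v)) = 0
      rcases hw v with hv | hv <;> simp [hv, h]
    · refine Or.inl (AddMonoidHom.ext fun v => ?_)
      show A (B (A v)) = A v
      rcases hw v with hv | hv <;> simp [hv, h]
  have three : (3 : AddMonoid.End M) = 1 := by
    rw [show (3 : AddMonoid.End M) = 2 + 1 by norm_num, two, zero_add]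
  have four : (4 : AddMonoid.End M) = 0 := by
    rw [show (4 : AddMonoid.End M) = 2 + 2 by norm_num, two, zero_add]
  set M1 := (1 + N) * (1 + P) with hM1
  have e2 : M1 ^ 2 = 1 + N * P + P * N + P * N * P + N * P * N + N * P * (N * P) := by
    rw [sq, hM1]
    simp only [mul_add, add_mul, one_mul, mul_one, mul_assoc]
    have hNN : ∀ x : AddMonoid.End M, N * (N * x) = 0 := fun x => by rw [← mul_assoc, hN, zero_mul]
    have hPP : ∀ x : AddMonoid.End M, P * (P * x) = 0 := fun x => by rw [← mul_assoc, hP, zero_mul]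
    simp only [hN, hP, hNN, hPP, mul_zero, add_zero, zero_add]
    abel_nf
    simp [two_smul, h2, three, four]
    try abel
  have hNPN := dich N P hu
  rcases dich P N hw with hp | hp
  · rcases hNPN with hn | hn
    · have e2' : M1 ^ 2 = 1 + N + P + P * N := by
        rw [e2, hp, hn, ← mul_assoc (N * P), hn]
        calc 1 + N * P + P * N + P + N + N * P = 1 + N + P + P * N + (N * P + N * P) := by abel
          _ = _ := by rw [h2, add_zero]
      have e3 : M1 ^ 3 = 1 := by
        rw [pow_succ, e2', hM1]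
        have hNN : ∀ x : AddMonoid.End M, N * (N * x) = 0 := fun x => by rw [← mul_assoc, hN, zero_mul]
        have hpn : P * (N * P) = P := by rw [← mul_assoc, hp]
        have hnp : ∀ x : AddMonoid.End M, N * (P * (N * x)) = N * x := fun x => by
          rw [← mul_assoc P, ← mul_assoc, ← mul_assoc, hn]
        simp only [mul_add, add_mul, one_mul, mul_one, mul_assoc, hN, hP, hNN, hpn,
          mul_zero, add_zero, zero_add]
        abel_nf
        simp [two_smul, h2, three, four]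
      rw [show (12 : ℕ) = 3 * 4 from rfl, pow_mul, e3, one_pow]
    · have hP0 : P = 0 := by
        have h' : P * (N * P * N) * P = P * N * P * N * P := by simp [mul_assoc]
        rw [hn, mul_zero, zero_mul, hp] at h'
        rw [hp] at h'
        exact h'.symm
      have hone : (1 + N) * (1 + N) = 1 := by
        rw [mul_add, add_mul, add_mul, one_mul, mul_one, hN, add_zero, one_mul, add_assoc, h2, add_zero]
      rw [hM1, hP0, add_zero, mul_one, show (12 : ℕ) = 2 * 6 from rfl, pow_mul, sq, hone, one_pow]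
  · have e2' : M1 ^ 2 = 1 + (N * P + P * N + N * P * N) := by
      rw [e2, hp, mul_assoc N P (N * P), ← mul_assoc P, hp, mul_zero]
      abel
    have hz : (N * P + P * N + N * P * N) * (N * P + P * N + N * P * N) = 0 := by
      have hNN : ∀ x : AddMonoid.End M, N * (N * x) = 0 := fun x => by rw [← mul_assoc, hN, zero_mul]
      have hPP : ∀ x : AddMonoid.End M, P * (P * x) = 0 := fun x => by rw [← mul_assoc, hP, zero_mul]
      have hpn : P * (N * P) = 0 := by rw [← mul_assoc, hp]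
      have hpn' : ∀ x : AddMonoid.End M, P * (N * (P * x)) = 0 := fun x => by
        rw [← mul_assoc N, ← mul_assoc, hpn, zero_mul]
      simp only [mul_add, add_mul, mul_assoc, hN, hP, hNN, hPP, hpn, hpn', mul_zero, add_zero]
    have e4 : M1 ^ 4 = 1 := by
      rw [show (4 : ℕ) = 2 * 2 from rfl, pow_mul, e2', sq]
      have hsq : ∀ W : AddMonoid.End M, W * W = 0 → (1 + W) * (1 + W) = 1 := fun W hW => by
        rw [mul_add, mul_one, add_mul, one_mul, hW, add_zero, add_assoc, h2, add_zero]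
      exact hsq _ hz
    rw [show (12 : ℕ) = 4 * 3 from rfl, pow_mul, e4, one_pow]

/-- An involution acting as a transvection and moving `K` kills it. -/
theorem trivial_of_transvection [Finite H] (hK : Comp K) (h2 : ∀ x : AddMonoid.End M, x + x = 0)
    {a : H} (ha : a ∉ normalizer (K : Set H)) (hinv : a⁻¹ = a)
    (hu : ∃ u, ∀ v, opd σ a v = 0 ∨ opd σ a v = u) : ∀ g ∈ K, σ g = 1 := by
  have hN : opd σ a * opd σ a = 0 := by
    have : σ a * σ a = 1 := by rw [← map_mul]; nth_rw 1 [← hinv]; rw [inv_mul_cancel, map_one]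
    simp only [opd, mul_sub, sub_mul, this, mul_one, one_mul]
    rw [← h2 ((1 : AddMonoid.End M) - σ a)]
    abel
  refine trivial_of_pow_central hK.perfect (i := 2) (j := 1) Nat.prime_three fun g hg k hk => ?_
  set c := g * a * g⁻¹ with hc
  have hcN : opd σ c = σ g * opd σ a * σ g⁻¹ := by
    simp [hc, opd, mul_sub, sub_mul, σ_mul_inv]
  have hP : opd σ c * opd σ c = 0 := by
    rw [hcN]
    calc σ g * opd σ a * σ g⁻¹ * (σ g * opd σ a * σ g⁻¹)
        = σ g * opd σ a * (σ g⁻¹ * σ g) * opd σ a * σ g⁻¹ := by simp [mul_assoc]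
      _ = 0 := by rw [σ_inv_mul, mul_one, mul_assoc (σ g), hN, mul_zero, zero_mul]
  obtain ⟨u, hu⟩ := hu
  have hw : ∃ w, ∀ v, opd σ c v = 0 ∨ opd σ c v = w := by
    refine ⟨σ g u, fun v => ?_⟩
    rw [hcN]
    show σ g (opd σ a (σ g⁻¹ v)) = 0 ∨ σ g (opd σ a (σ g⁻¹ v)) = σ g u
    rcases hu (σ g⁻¹ v) with h | h <;> simp [h]
  have h12 := pow_twelve_eq_one h2 hN hP hw ⟨u, hu⟩
  rw [show 1 + opd σ a = σ a by simp [opd], show 1 + opd σ c = σ c by simp [opd], ← map_mul,
    show a * c = a * g * a⁻¹ * g⁻¹ by rw [hc, hinv]; group, ← map_pow,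
    ((hK.comm a ha g hg g hg).symm.inv_right).mul_pow, map_mul, inv_pow] at h12
  have he : σ (g ^ 12) = σ ((a * g * a⁻¹) ^ 12) := by
    calc σ (g ^ 12) = σ ((a * g * a⁻¹) ^ 12) * σ (g ^ 12)⁻¹ * σ (g ^ 12) := by rw [h12, one_mul]
      _ = σ ((a * g * a⁻¹) ^ 12) := by rw [mul_assoc, σ_inv_mul, mul_one]
  rw [show (2 ^ 2 * 3 ^ 1 : ℕ) = 12 from rfl, he]
  exact (((hK.comm a ha k hk g hg).symm).pow_left 12).map σ

end CfsgLib.PGV
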