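/-
Products over the orbit of a component, and the cases decided by them.
-/
import Cfsg.Agent.PGV.Cross

set_option autoImplicit false

namespace CfsgLib.PGV

open Subgroup
open scoped commutatorElement

variable {H M : Type*} [Group H] [AddCommGroup M]
variable {σ : H →* AddMonoid.End M} {K : Subgroup H}

/-- Elements commuting with `a` after which `a` is the identity. -/
def fixSubgroup (σ : H →* AddMonoid.End M) (a : H) : Subgroup H where
  carrier := {x | Commute a x ∧ opd σ a * opd σ x = 0}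
  one_mem' := ⟨Commute.one_right _, by simp [opd]⟩
  mul_mem' := fun {x y} hx hy => ⟨hx.1.mul_right hy.1, by
    rw [opd_mul, mul_add, hx.2, add_zero, ← mul_assoc, ((commute_opd hx.1.symm).symm).eq, mul_assoc,
      hy.2, mul_zero]⟩
  inv_mem' := fun {x} hx => ⟨hx.1.inv_right, by
    rw [opd_inv, mul_neg, ← mul_assoc, ((commute_opd hx.1.inv_right.symm).symm).eq, mul_assoc, hx.2,
      mul_zero, neg_zero]⟩

theorem conj_mem_fixSubgroup {a x k : H} (hx : x ∈ fixSubgroup σ a) (hk : Commute a k) :
    k * x * k⁻¹ ∈ fixSubgroup σ a := by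
  refine ⟨(hk.mul_right hx.1).mul_right hk.inv_right, ?_⟩
  have h : opd σ (k * x * k⁻¹) = σ k * opd σ x * σ k⁻¹ := by
    simp [opd, mul_sub, sub_mul, σ_mul_inv]
  rw [h, ← mul_assoc, ← mul_assoc, ((commute_opd hk.symm).symm).eq, mul_assoc (σ k), hx.2, mul_zero,
    zero_mul]

theorem mem_fixSubgroup_pow {a x : H} (hx : x ∈ fixSubgroup σ a) (n : ℕ) :
    x ∈ fixSubgroup σ (a ^ n) := by
  induction n with
  | zero => exact ⟨by simp, by simp [opd]⟩
  | succ n ih =>
    refine ⟨hx.1.pow_left _, ?_⟩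
    rw [pow_succ, opd_mul, add_mul, ih.2, add_zero, mul_assoc, hx.2, mul_zero]

/-- The product of `g` over the first `n` conjugates under powers of `a`. -/
def zprod (a g : H) : ℕ → H
  | 0 => 1
  | n + 1 => zprod a g n * (a ^ n * g * (a ^ n)⁻¹)

theorem pow_not_mem_normalizer {a : H} {p : ℕ} [hp : Fact p.Prime] (hap : a ^ p = 1)
    (ha : a ∉ normalizer (K : Set H)) {j : ℕ} (h0 : 0 < j) (hj : j < p) :
    a ^ j ∉ normalizer (K : Set H) := by
  intro h
  have hc : j.Coprime p :=
    (hp.out.coprime_iff_not_dvd.2 fun hd => absurd (Nat.le_of_dvd h0 hd) (by omega)).symm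
  obtain ⟨i, hi⟩ := exists_pow_eq_self_of_coprime (hc.coprime_dvd_right (orderOf_dvd_of_pow_eq_one hap))
  exact ha (hi ▸ pow_mem h i)

variable (hK : Comp K) {a : H} {p : ℕ} [hp : Fact p.Prime] (hap : a ^ p = 1)
  (ha : a ∉ normalizer (K : Set H))
include hK hap ha

theorem commute_factor {i j : ℕ} (hi : i < p) (hj : j < p) (hij : i ≠ j) {g k : H} (hg : g ∈ K)
    (hk : k ∈ K) : Commute (a ^ i * g * (a ^ i)⁻¹) (a ^ j * k * (a ^ j)⁻¹) := by
  rcases lt_or_gt_of_ne hij with h | h
  · refine hK.commute_conj ?_ hg hk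
    rw [show (a ^ i)⁻¹ * a ^ j = a ^ (j - i) by
      rw [inv_mul_eq_iff_eq_mul, ← pow_add, Nat.add_sub_cancel' h.le]]
    exact pow_not_mem_normalizer hap ha (by omega) (by omega)
  · refine (hK.commute_conj ?_ hk hg).symm
    rw [show (a ^ j)⁻¹ * a ^ i = a ^ (i - j) by
      rw [inv_mul_eq_iff_eq_mul, ← pow_add, Nat.add_sub_cancel' h.le]]
    exact pow_not_mem_normalizer hap ha (by omega) (by omega)

theorem commute_zprod_of_le {g k : H} (hg : g ∈ K) (hk : k ∈ K) {n j : ℕ} (hnj : n ≤ j) (hj : j < p) :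
    Commute (zprod a g n) (a ^ j * k * (a ^ j)⁻¹) := by
  induction n with
  | zero => exact Commute.one_left _
  | succ n ih =>
    exact (ih (by omega)).mul_left (commute_factor hK hap ha (by omega) hj (by omega) hg hk)

theorem zprod_mul {g h : H} (hg : g ∈ K) (hh : h ∈ K) :
    ∀ {n : ℕ}, n ≤ p → zprod a (g * h) n = zprod a g n * zprod a h n := by
  intro n
  induction n with
  | zero => intro _; simp [zprod]
  | succ n ih =>
    intro hn
    have hc := (commute_zprod_of_le hK hap ha hh hg (le_refl n) (by omega)).eq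
    simp only [zprod]
    rw [ih (by omega), show a ^ n * (g * h) * (a ^ n)⁻¹ =
      (a ^ n * g * (a ^ n)⁻¹) * (a ^ n * h * (a ^ n)⁻¹) by group]
    calc zprod a g n * zprod a h n * (a ^ n * g * (a ^ n)⁻¹ * (a ^ n * h * (a ^ n)⁻¹))
        = zprod a g n * (zprod a h n * (a ^ n * g * (a ^ n)⁻¹)) * (a ^ n * h * (a ^ n)⁻¹) := by
          simp only [mul_assoc]
      _ = _ := by rw [hc]; simp only [mul_assoc]

theorem commute_zprod_self {g : H} (hg : g ∈ K) : ∀ {n : ℕ}, n ≤ p → Commute g (zprod a g n) := by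
  intro n
  induction n with
  | zero => intro _; exact Commute.one_right _
  | succ n ih =>
    intro hn
    refine (ih (by omega)).mul_right ?_
    rcases Nat.eq_zero_or_pos n with rfl | h0
    · simp
    · have := commute_factor hK hap ha (i := 0) (j := n) hp.out.pos (by omega) (by omega) hg hg
      simpa using this

omit hK ha in
theorem conj_zprod (g : H) (n : ℕ) :
    g * (a * zprod a g n * a⁻¹) = zprod a g (n + 1) := by
  induction n with
  | zero => simp [zprod]
  | succ n ih =>
    calc g * (a * zprod a g (n + 1) * a⁻¹)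
        = g * (a * zprod a g n * a⁻¹) * (a ^ (n + 1) * g * (a ^ (n + 1))⁻¹) := by
          simp only [zprod, pow_succ']
          group
      _ = zprod a g (n + 1 + 1) := by rw [ih]; rfl

theorem commute_zprod {g : H} (hg : g ∈ K) : Commute a (zprod a g p) := by
  have h1 := conj_zprod hap g p
  rw [show zprod a g (p + 1) = zprod a g p * (a ^ p * g * (a ^ p)⁻¹) from rfl, hap, one_mul, inv_one,
    mul_one, ← (commute_zprod_self hK hap ha hg le_rfl).eq] at h1
  exact mul_inv_eq_iff_eq_mul.1 (mul_left_cancel h1)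

theorem zprod_mem_fixSubgroup {b : H} (hb : b ∈ normalizer (K : Set H))
    (hbc : b ∉ centralizer (K : Set H)) (hba : b ∈ fixSubgroup σ a) {g : H} (hg : g ∈ K) :
    zprod a g p ∈ fixSubgroup σ a := by
  let X : Subgroup H :=
    { carrier := {g | g ∈ K ∧ zprod a g p ∈ fixSubgroup σ a}
      one_mem' := ⟨one_mem K, by
        have : zprod a (1 : H) p = 1 := by
          generalize p = n
          induction n with
          | zero => rfl
          | succ n ih => simp [zprod, ih]
        rw [this]; exact one_mem _⟩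
      mul_mem' := fun {x y} hx hy => ⟨mul_mem hx.1 hy.1, by
        rw [zprod_mul hK hap ha hx.1 hy.1 le_rfl]; exact mul_mem hx.2 hy.2⟩
      inv_mem' := fun {x} hx => ⟨inv_mem hx.1, by
        have h := zprod_mul hK hap ha hx.1 (inv_mem hx.1) (le_refl p)
        have h1 : zprod a (1 : H) p = 1 := by
          generalize p = n
          induction n with
          | zero => rfl
          | succ n ih => simp [zprod, ih]
        rw [mul_inv_cancel, h1] at h
        rw [eq_inv_of_mul_eq_one_right h.symm]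
        exact inv_mem hx.2⟩ }
  suffices hX : ∀ k ∈ K, ⁅b, k⁆ ∈ X from (hK.gen b hb hbc X hX hg).2
  intro k hk
  have hbk : b * k * b⁻¹ ∈ K := (mem_normalizer_iff.1 hb k).1 hk
  refine ⟨by rw [commutatorElement_def]; exact mul_mem hbk (inv_mem hk), ?_⟩
  have hconj : ∀ n, zprod a (b * k * b⁻¹) n = b * zprod a k n * b⁻¹ := by
    intro n
    induction n with
    | zero => simp [zprod]
    | succ n ih =>
      have hc := (hba.1.pow_left n).eq
      simp only [zprod]
      rw [ih, show a ^ n * (b * k * b⁻¹) * (a ^ n)⁻¹ = a ^ n * b * k * (a ^ n * b)⁻¹ by group, hc]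
      group
  have h1 : zprod a (k⁻¹) p = (zprod a k p)⁻¹ := by
    have h := zprod_mul hK hap ha hk (inv_mem hk) (le_refl p)
    have h1 : zprod a (1 : H) p = 1 := by
      generalize p = n
      induction n with
      | zero => rfl
      | succ n ih => simp [zprod, ih]
    rw [mul_inv_cancel, h1] at h
    exact eq_inv_of_mul_eq_one_right h.symm
  rw [commutatorElement_def, zprod_mul hK hap ha hbk (inv_mem hk) le_rfl, hconj, h1]
  have hz := conj_mem_fixSubgroup (inv_mem hba) (commute_zprod hK hap ha hk)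
  have := mul_mem hba hz
  simpa [mul_assoc] using this

theorem zprod_decomp {g k : H} (hg : g ∈ K) (hk : k ∈ K) {j : ℕ} (hj : j < p) :
    ∀ {n : ℕ}, n ≤ p → j < n →
      Commute (zprod a g n * (a ^ j * g * (a ^ j)⁻¹)⁻¹) (a ^ j * k * (a ^ j)⁻¹) := by
  intro n
  induction n with
  | zero => intro _ h; omega
  | succ n ih =>
    intro hn hjn
    simp only [zprod]
    rcases eq_or_ne j n with rfl | hne
    · rw [mul_inv_cancel_right]
      exact commute_zprod_of_le hK hap ha hg hk le_rfl hj
    · have h1 := ih (by omega) (by omega)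
      have hc := (commute_factor hK hap ha (i := n) (j := j) (by omega) hj (Ne.symm hne) hg hg).inv_right
      rw [mul_assoc, hc.eq, ← mul_assoc]
      exact h1.mul_left (commute_factor hK hap ha (by omega) hj (Ne.symm hne) hg hk)

/-- For odd `p`: if `a` moves `K` and fixes the commutator space of an element normalizing `K`
without centralizing it, then `K` acts trivially. -/
theorem trivial_of_orbit [Finite H] (hp0 : (p : AddMonoid.End M) = 0) (hp2 : p ≠ 2) {b : H}
    (hb : b ∈ normalizer (K : Set H)) (hbc : b ∉ centralizer (K : Set H))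
    (hba : b ∈ fixSubgroup σ a) : ∀ g ∈ K, σ g = 1 := by
  have h3 : 3 ≤ p := by have := hp.out.two_le; omega
  have hz : ∀ g ∈ K, zprod a g p ∈ fixSubgroup σ a :=
    fun g hg => zprod_mem_fixSubgroup hK hap ha hb hbc hba hg
  have hcross : ∀ j, 0 < j → j < p → ∀ g ∈ K, ∀ h ∈ K,
      opd σ g * opd σ (a ^ j * h * (a ^ j)⁻¹) = 0 := by
    intro j h0 hj
    obtain ⟨i, hi0, hi, hij⟩ : ∃ i, 0 < i ∧ i < p ∧ i ≠ j := by
      rcases eq_or_ne j 1 with rfl | h
      · exact ⟨2, by omega, by omega, by omega⟩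
      · exact ⟨1, by omega, by omega, h.symm⟩
    refine cross_of_third hK (a := a ^ i) (f := a ^ j) (pow_not_mem_normalizer hap ha hi0 hi)
      (pow_not_mem_normalizer hap ha h0 hj) ?_ ?_
    · rcases lt_or_gt_of_ne hij with h | h
      · rw [show (a ^ i)⁻¹ * a ^ j = a ^ (j - i) by
          rw [inv_mul_eq_iff_eq_mul, ← pow_add, Nat.add_sub_cancel' h.le]]
        exact pow_not_mem_normalizer hap ha (by omega) (by omega)
      · intro hmem
        have := inv_mem hmem
        rw [mul_inv_rev, inv_inv, show (a ^ j)⁻¹ * a ^ i = a ^ (i - j) by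
          rw [inv_mul_eq_iff_eq_mul, ← pow_add, Nat.add_sub_cancel' h.le]] at this
        exact pow_not_mem_normalizer hap ha (by omega) (by omega) this
    · intro g hg hgc
      have hm := mem_fixSubgroup_pow (hz g hg) i
      exact ⟨zprod a g p, zprod a g p * (a ^ j * g * (a ^ j)⁻¹)⁻¹, g, hg, hgc,
        (inv_mul_cancel_right _ _).symm, fun k hk => zprod_decomp hK hap ha hg hk hj le_rfl hj,
        hm.1.symm, (commute_zprod_self hK hap ha hg le_rfl).symm, hm.2⟩
  refine trivial_of_cross hK hp0 ha (fun g hg => ?_) fun g hg => ?_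
  · have := hcross 1 (by omega) (by omega) g hg g hg
    rwa [pow_one] at this
  · have hm := hz g hg
    refine ⟨zprod a g p, g⁻¹ * zprod a g p, (mul_inv_cancel_left _ _).symm, hm.1.symm,
      (commute_zprod_self hK hap ha hg le_rfl).symm, hm.2, ?_⟩
    have key : ∀ n, n + 1 ≤ p → σ (g⁻¹ * zprod a g (n + 1)) * opd σ g = opd σ g := by
      intro n
      induction n with
      | zero => intro _; simp [zprod]
      | succ n ih =>
        intro hn
        rw [show zprod a g (n + 1 + 1) = zprod a g (n + 1) * (a ^ (n + 1) * g * (a ^ (n + 1))⁻¹) from rfl,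
          ← mul_assoc, map_mul, mul_assoc]
        have h0 := hcross (n + 1) (by omega) (by omega) g hg g hg
        have hc : Commute (opd σ g) (opd σ (a ^ (n + 1) * g * (a ^ (n + 1))⁻¹)) :=
          commute_opd_opd (hK.comm _ (pow_not_mem_normalizer hap ha (by omega) (by omega)) g hg g hg)
        rw [hc.eq, opd, sub_mul, one_mul, sub_eq_zero] at h0
        rw [h0, ih (by omega)]
    have := key (p - 1) (by omega)
    rwa [Nat.sub_add_cancel hp.out.pos] at this

omit hap in
/-- For `p = 2`: two elements moving `K` independently, one after the other the identity. -/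
theorem trivial_of_two [Finite H] (ha2 : a * a = 1) (h2 : (2 : AddMonoid.End M) = 0) {c : H}
    (hc2 : c * c = 1) (hac : Commute a c) (hc : c ∉ normalizer (K : Set H))
    (hacn : a * c ∉ normalizer (K : Set H)) (hNN : opd σ a * opd σ c = 0) :
    ∀ g ∈ K, σ g = 1 := by
  have h20 : ((2 : ℕ) : AddMonoid.End M) = 0 := by exact_mod_cast h2
  haveI : Fact (Nat.Prime 2) := ⟨Nat.prime_two⟩
  -- a pair `(x, y)` playing the roles of `(a, c)`
  have main : ∀ {x y : H}, x * x = 1 → y * y = 1 → Commute x y → x ∉ normalizer (K : Set H) →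
      y ∉ normalizer (K : Set H) → x * y ∉ normalizer (K : Set H) → opd σ x * opd σ y = 0 →
      (∀ g ∈ K, ∀ h ∈ K, opd σ g * opd σ (y * h * y⁻¹) = 0) ∧
      (∀ g ∈ K, ∀ h ∈ K, opd σ g * opd σ ((x * y) * h * (x * y)⁻¹) = 0) ∧
      ∀ g ∈ K, ∃ d : H, d = g * ((x * g * x⁻¹) * ((y * g⁻¹ * y⁻¹) * ((x * y) * g⁻¹ * (x * y)⁻¹))) ∧
        Commute d x ∧ Commute d g ∧ opd σ x * opd σ d = 0 := by
    intro x y hx2 hy2 hxy hx hy hxyn hN
    have hxinv : x⁻¹ = x := inv_eq_of_mul_eq_one_right hx2
    have hd : ∀ g ∈ K, ∃ d : H,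
        d = g * ((x * g * x⁻¹) * ((y * g⁻¹ * y⁻¹) * ((x * y) * g⁻¹ * (x * y)⁻¹))) ∧
        Commute d x ∧ Commute d g ∧ opd σ x * opd σ d = 0 := by
      intro g hg
      refine ⟨_, rfl, ?_⟩
      set s := g * (x * g * x⁻¹) with hs
      have hgx : Commute g (x * g * x⁻¹) := hK.comm x hx g hg g hg
      have hsx : Commute x s := by
        show x * s = s * x
        calc x * s = (x * g * x⁻¹) * ((x * x) * g * (x * x)⁻¹) * x := by rw [hs]; group
          _ = s * x := by rw [hx2, inv_one, one_mul, mul_one, ← hgx.eq]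
      have hy' : y ∈ fixSubgroup σ x := ⟨hxy, hN⟩
      have hmem := mul_mem (conj_mem_fixSubgroup hy' hsx) (inv_mem hy')
      have he : s * y * s⁻¹ * y⁻¹ =
          g * ((x * g * x⁻¹) * ((y * g⁻¹ * y⁻¹) * ((x * y) * g⁻¹ * (x * y)⁻¹))) := by
        have h1 : Commute (y * g⁻¹ * y⁻¹) ((x * y) * g⁻¹ * (x * y)⁻¹) := by
          refine hK.commute_conj ?_ (inv_mem hg) (inv_mem hg)
          rw [hxy.eq, inv_mul_cancel_left]
          exact hx
        rw [h1.eq, hs, hxy.eq]
        group
      rw [he] at hmem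
      refine ⟨hmem.1.symm, ?_, hmem.2⟩
      exact ((Commute.refl g).mul_left ((hgx.symm).mul_left
        (((hK.comm y hy g hg _ (inv_mem hg)).symm).mul_left
          ((hK.comm (x * y) hxyn g hg _ (inv_mem hg)).symm))))
    refine ⟨?_, ?_, hd⟩
    · refine cross_of_third hK (a := x) (f := y) hx hy ?_ ?_
      · rwa [hxinv]
      · intro g hg hgc
        obtain ⟨d, hde, hdx, hdg, hdN⟩ := hd g hg
        refine ⟨d, g * ((x * g * x⁻¹) * ((x * y) * g⁻¹ * (x * y)⁻¹)), g⁻¹, inv_mem hg,
          fun h => hgc (by simpa using inv_mem h), ?_, ?_, hdx, hdg, hdN⟩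
        · rw [hde]
          have h1 : Commute (y * g⁻¹ * y⁻¹) ((x * y) * g⁻¹ * (x * y)⁻¹) := by
            refine hK.commute_conj ?_ (inv_mem hg) (inv_mem hg)
            rw [hxy.eq, inv_mul_cancel_left]
            exact hx
          rw [h1.eq]
          group
        · intro k hk
          refine (hK.comm y hy g hg k hk).mul_left ((hK.commute_conj ?_ hg hk).mul_left
            (hK.commute_conj ?_ (inv_mem hg) hk))
          · rwa [hxinv]
          · intro h
            refine hx ?_
            have h' := inv_mem h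
            rwa [mul_inv_rev, inv_inv, hxy.eq, inv_mul_cancel_left] at h'
    · refine cross_of_third hK (a := x) (f := x * y) hx hxyn ?_ ?_
      · rwa [inv_mul_cancel_left]
      · intro g hg hgc
        obtain ⟨d, hde, hdx, hdg, hdN⟩ := hd g hg
        refine ⟨d, g * ((x * g * x⁻¹) * (y * g⁻¹ * y⁻¹)), g⁻¹, inv_mem hg,
          fun h => hgc (by simpa using inv_mem h), ?_, ?_, hdx, hdg, hdN⟩
        · rw [hde]; group
        · intro k hk
          refine (hK.comm (x * y) hxyn g hg k hk).mul_left ((hK.commute_conj ?_ hg hk).mul_left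
            (hK.commute_conj ?_ (inv_mem hg) hk))
          · rwa [inv_mul_cancel_left]
          · rw [hxy.eq, inv_mul_cancel_left]; exact hx
  obtain ⟨hyc, hxyc, hd⟩ := main ha2 hc2 hac ha hc hacn hNN
  obtain ⟨hxc, -, -⟩ := main hc2 ha2 hac.symm hc ha (hac.eq ▸ hacn)
    (by rw [(commute_opd_opd hac.symm).eq]; exact hNN)
  refine trivial_of_cross hK h20 ha (fun g hg => hxc g hg g hg) fun g hg => ?_
  obtain ⟨d, hde, hdx, hdg, hdN⟩ := hd g hg
  refine ⟨d, _, hde, hdx, hdg, hdN, ?_⟩
  have fixes : ∀ {e h : H}, e ∉ normalizer (K : Set H) → h ∈ K →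
      opd σ g * opd σ (e * h * e⁻¹) = 0 → σ (e * h * e⁻¹) * opd σ g = opd σ g := by
    intro e h he hh h0
    rw [(commute_opd_opd (hK.comm e he g hg h hh)).eq, opd, sub_mul, one_mul, sub_eq_zero] at h0
    exact h0
  rw [map_mul σ (a * g * a⁻¹), map_mul σ (c * g⁻¹ * c⁻¹), mul_assoc (σ (a * g * a⁻¹)),
    mul_assoc (σ (c * g⁻¹ * c⁻¹)),
    fixes hacn (inv_mem hg) (hxyc g hg _ (inv_mem hg)), fixes hc (inv_mem hg) (hyc g hg _ (inv_mem hg)),
    fixes ha hg (hxc g hg g hg)]

end CfsgLib.PGV
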