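/-
Passing to the quotient by the fixed points of a component.
-/
import Cfsg.Agent.PGV.Cross

set_option autoImplicit false

namespace CfsgLib.PGV

open Subgroup
open scoped commutatorElement

variable {H M : Type*} [Group H] [AddCommGroup M] {σ : H →* AddMonoid.End M} {K : Subgroup H}

/-- The elements preserving `C`. -/
def stab (σ : H →* AddMonoid.End M) (C : AddSubgroup M) : Subgroup H where
  carrier := {e | ∀ v, σ e v ∈ C ↔ v ∈ C}
  one_mem' := by simp
  mul_mem' := fun {e f} he hf v => by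
    rw [show σ (e * f) v = σ e (σ f v) by rw [map_mul]; rfl, he, hf]
  inv_mem' := fun {e} he v => by
    have h := he (σ e⁻¹ v)
    rw [show σ e (σ e⁻¹ v) = v from DFunLike.congr_fun (σ_mul_inv (σ := σ) e) v] at h
    exact h.symm

/-- The action of `stab σ C` on the quotient by `C`. -/
def quoHom (σ : H →* AddMonoid.End M) (C : AddSubgroup M) :
    stab σ C →* AddMonoid.End (M ⧸ C) where
  toFun e := QuotientAddGroup.map C C (σ (e : H) : M →+ M) fun v hv => (e.2 v).2 hv
  map_one' := AddMonoidHom.ext fun x => QuotientAddGroup.induction_on x fun v => by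
    show ((σ (1 : H) v : M) : M ⧸ C) = _
    rw [map_one]; rfl
  map_mul' e f := AddMonoidHom.ext fun x => QuotientAddGroup.induction_on x fun v => by
    show ((σ ((e : H) * f) v : M) : M ⧸ C) = _
    rw [map_mul]; rfl

theorem quoHom_mk {C : AddSubgroup M} (e : stab σ C) (v : M) :
    quoHom σ C e (v : M ⧸ C) = ((σ (e : H) v : M) : M ⧸ C) := rfl

theorem Comp.subgroupOf (hK : Comp K) {S : Subgroup H} (hS : K ≤ S) : Comp (K.subgroupOf S) := by
  have hmap : (K.subgroupOf S).map S.subtype = K := by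
    rw [subgroupOf_map_subtype, inf_eq_left.2 hS]
  have hN : ∀ e : S, e ∈ normalizer (K.subgroupOf S : Set S) ↔ (e : H) ∈ normalizer (K : Set H) := by
    intro e
    simp only [mem_normalizer_iff, mem_subgroupOf, coe_mul, coe_inv]
    refine ⟨fun h z => ⟨fun hz => (h ⟨z, hS hz⟩).1 hz, fun hz => ?_⟩, fun h z => h z⟩
    have hzS : z ∈ S := by
      have := mul_mem (mul_mem (inv_mem e.2) (hS hz)) e.2
      simpa [mul_assoc] using this
    exact (h ⟨z, hzS⟩).2 hz
  have hC : ∀ e : S, e ∈ centralizer (K.subgroupOf S : Set S) ↔ (e : H) ∈ centralizer (K : Set H) := by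
    intro e
    simp only [mem_centralizer_iff, SetLike.mem_coe, mem_subgroupOf]
    exact ⟨fun h z hz => congrArg Subtype.val (h ⟨z, hS hz⟩ hz), fun h z hz => Subtype.ext (h z hz)⟩
  refine ⟨fun e he g hg h hh => ?_, ?_, fun b hb hbc X hX => ?_, ?_⟩
  · have := hK.comm (e : H) (fun h' => he ((hN e).2 h')) (g : H) hg (h : H) hh
    exact Subtype.ext this
  · refine map_injective S.subtype_injective ?_
    rw [map_commutator, hmap]
    exact hK.perfect
  · have h := hK.gen (b : H) ((hN b).1 hb) (fun h' => hbc ((hC b).2 h')) (X.map S.subtype)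
      fun k hk => ⟨⁅b, ⟨k, hS hk⟩⁆, hX _ hk, rfl⟩
    intro k hk
    obtain ⟨k', hk', he⟩ := h hk
    obtain rfl : k' = k := Subtype.ext he
    exact hk'
  · obtain ⟨u, hu, huc⟩ := hK.nonabelian
    exact ⟨⟨u, hS hu⟩, hu, fun h => huc ((hC _).1 h)⟩

/-- If `K` acts trivially on `C` and on the quotient by `C`, it acts trivially. -/
theorem trivial_of_quotient (hK : Comp K) {C : AddSubgroup M}
    (hC : ∀ g ∈ K, ∀ v ∈ C, σ g v = v) (hq : ∀ g ∈ K, ∀ v, σ g v - v ∈ C) :
    ∀ g ∈ K, σ g = 1 := by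
  refine trivial_of_commute hK.perfect fun g hg k hk => AddMonoidHom.ext fun v => ?_
  show σ g (σ k v) = σ k (σ g v)
  have h1 : σ g (σ k v - v) = σ k v - v := hC g hg _ (hq k hk v)
  have h2 : σ k (σ g v - v) = σ g v - v := hC k hk _ (hq g hg v)
  rw [map_sub] at h1 h2
  rw [sub_eq_iff_eq_add.1 h1, sub_eq_iff_eq_add.1 h2]
  abel

end CfsgLib.PGV
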