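/-
A best offender normalizes every component: the case analysis.
-/
import Cfsg.Agent.PGV.Orbit
import Cfsg.Agent.PGV.Count
import Cfsg.Agent.PGV.Quotient

set_option autoImplicit false
set_option linter.style.haveILetI false

namespace CfsgLib.PGV

open Subgroup
open scoped commutatorElement

variable {H M : Type*} [Group H] [AddCommGroup M] {σ : H →* AddMonoid.End M} {K : Subgroup H}

/-- An element acting as the identity after the commutator space of `a`, and centralizing `K`, is
trivial once the commutators of the conjugates of `K` generate. -/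
theorem eq_one_of_centralizes (hK : Comp K) {A : Subgroup H}
    (hAc : ∀ x ∈ A, ∀ y ∈ A, Commute x y)
    (hT : ∀ f : AddMonoid.End M, (∀ e ∈ A, ∀ k ∈ K, f * opd σ (e * k * e⁻¹) = 0) → f = 0)
    {a q : H} (ha : a ∉ normalizer (K : Set H)) (hq : q ∈ A)
    (hqK : q ∈ centralizer (K : Set H)) (hNN : opd σ a * opd σ q = 0) : σ q = 1 := by
  have hqk : ∀ k ∈ K, Commute q k := fun k hk => (mem_centralizer_iff.1 hqK k hk).symm
  have h0 : ∀ g ∈ K, opd σ g * opd σ q = 0 := by
    refine opd_mul_eq_zero_of_agree hK ha (fun g hg => commute_opd (hqk g hg).symm) fun g hg => ?_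
    refine agree_of_fixed ?_ (commute_opd (hqk g hg).symm)
    rw [← sub_eq_zero]
    simpa [opd, sub_mul] using hNN
  refine sub_eq_zero.1 (hT (opd σ q) fun e he k hk => ?_)
  have hc : Commute q (e * k * e⁻¹) := ((hAc q hq e he).mul_right (hqk k hk)).mul_right (hAc q hq e he).inv_right
  have h1 : opd σ (e * k * e⁻¹) = σ e * opd σ k * σ e⁻¹ := by
    simp [opd, mul_sub, sub_mul, σ_mul_inv]
  have h2 : Commute (σ e⁻¹) (opd σ q) := commute_opd (hAc q hq e he).inv_right.symm
  rw [(commute_opd_opd hc).eq, h1, mul_assoc, h2.eq, ← mul_assoc, mul_assoc (σ e), h0 k hk, mul_zero,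
    zero_mul]

/-- Fixed points of an odd order element of `K` and of its conjugate under `a` agree. -/
theorem fix_conj {a x : H} {m : ℕ} (hm : Odd m) (hxm : x ^ m = 1) (h2 : ∀ v : M, v + v = 0)
    (hc : Commute x (a * x * a⁻¹)) (hza : Commute a (x * (a * x * a⁻¹)))
    (hzx : Commute x (x * (a * x * a⁻¹))) (hz : opd σ a * opd σ (x * (a * x * a⁻¹)) = 0) :
    ∀ v, σ x v = v → σ (a * x * a⁻¹) v = v := by
  intro v hv
  set y := a * x * a⁻¹ with hy
  have hagree : σ y * opd σ (x * y) = σ x * opd σ (x * y) := by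
    refine agree_of_fixed ?_ (commute_opd hzx)
    rw [← sub_eq_zero]
    simpa [opd, sub_mul] using hz
  have h := DFunLike.congr_fun hagree v
  have hxy : σ x (σ y v) = σ y (σ x v) := DFunLike.congr_fun (hc.map σ).eq v
  change σ y (σ (x * y) v - v) = σ x (σ (x * y) v - v) at h
  rw [show σ (x * y) v = σ x (σ y v) by rw [map_mul]; rfl, hxy, hv, map_sub, map_sub, hxy, hv] at h
  have h3 : σ y (σ y v) = v := by
    have h4 : σ y (σ y v) - v = 0 := by
      calc σ y (σ y v) - v = (σ y (σ y v) - σ y v) - (σ y v - v) + (σ y v + σ y v) - (v + v) := by abel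
        _ = 0 := by rw [h, sub_self, zero_add, h2, h2, sub_zero]
    exact sub_eq_zero.1 h4
  refine eq_of_sq_fixed hm ?_ h3
  rw [← map_pow, hy, conj_pow, hxm, mul_one, mul_inv_cancel, map_one]

/-- The main theorem in operator form. -/
theorem trivial_of_offender [Finite H] [Finite M] {p : ℕ} [hp : Fact p.Prime]
    (hK : Comp K) (A Q : Subgroup H) (hQA : Q ≤ A)
    (hAc : ∀ x ∈ A, ∀ y ∈ A, Commute x y) (hAp : ∀ x ∈ A, x ^ p = 1)
    (hp0 : ∀ v : M, p • v = 0) (hNN : ∀ a ∈ A, ∀ q ∈ Q, opd σ a * opd σ q = 0)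
    (hT : ∀ f : AddMonoid.End M, (∀ e ∈ A, ∀ k ∈ K, f * opd σ (e * k * e⁻¹) = 0) → f = 0)
    (hQ1 : (∀ q ∈ Q, σ q = 1) → ∀ a ∈ A, σ a = 1)
    (hQ2 : ∀ D : Subgroup H, D ≤ Q → (∀ d ∈ D, σ d = 1) →
      Nat.card M * Nat.card D ≤ Nat.card Q * Nat.card {v : M // ∀ q ∈ Q, σ q v = v})
    (hinv : p = 2 → ∀ b ∈ normalizer (K : Set H), b * b = 1 → b ∉ centralizer (K : Set H) →
      ∃ x ∈ K, x ∉ centralizer (K : Set H) ∧ Odd (orderOf x) ∧ b * x * b⁻¹ = x⁻¹)
    {a : H} (haA : a ∈ A) (ha : a ∉ normalizer (K : Set H)) : ∀ g ∈ K, σ g = 1 := by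
  classical
  have hpM : (p : AddMonoid.End M) = 0 := AddMonoidHom.ext fun v => by
    show (p : AddMonoid.End M) v = 0
    rw [AddMonoid.End.natCast_apply]; exact hp0 v
  have hcN : centralizer (K : Set H) ≤ normalizer (K : Set H) := centralizer_le_normalizer _
  -- every element of `Q` centralizes `K`
  by_cases hQC : Q ≤ centralizer (K : Set H)
  · have hA1 := hQ1 fun q hq => eq_one_of_centralizes hK hAc hT ha (hQA hq) (hQC hq) (hNN a haA q hq)
    refine trivial_of_commute hK.perfect fun g hg k hk => ?_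
    have h1 : σ (a * k * a⁻¹) = σ k := by
      rw [map_mul, map_mul, hA1 a haA, hA1 a⁻¹ (inv_mem haA), one_mul, mul_one]
    have h2 := (hK.comm a ha g hg k hk).map σ
    rwa [h1] at h2
  rcases eq_or_ne p 2 with rfl | hp2
  swap
  · obtain ⟨m, hm⟩ := hp.out.odd_of_ne_two hp2
    by_cases hQN : Q ≤ normalizer (K : Set H)
    · obtain ⟨b, hbQ, hbc⟩ := SetLike.not_le_iff_exists.1 hQC
      exact trivial_of_orbit hK (hAp a haA) ha hpM hp2 (hQN hbQ) hbc
        ⟨hAc a haA b (hQA hbQ), hNN a haA b hbQ⟩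
    · obtain ⟨q, hqQ, hq⟩ := SetLike.not_le_iff_exists.1 hQN
      exact trivial_of_quadratic_odd hK (m := m) (hm ▸ hpM) hq (hNN q (hQA hqQ) q hqQ)
  -- `p = 2`
  have h2 : ∀ v : M, v + v = 0 := fun v => by rw [← two_nsmul]; exact hp0 v
  have h2E : ∀ x : AddMonoid.End M, x + x = 0 := fun x => AddMonoidHom.ext fun v => h2 (x v)
  have hsq : ∀ x ∈ A, x * x = 1 := fun x hx => by rw [← sq]; exact hAp x hx
  have hself : ∀ x ∈ A, x⁻¹ = x := fun x hx => inv_eq_of_mul_eq_one_right (hsq x hx)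
  by_cases htwo : ∃ q ∈ Q, q ∉ normalizer (K : Set H) ∧ ∃ c ∈ A, c ∉ normalizer (K : Set H) ∧
      q * c ∉ normalizer (K : Set H)
  · obtain ⟨q, hqQ, hq, c, hcA, hc, hqc⟩ := htwo
    refine trivial_of_two hK hq (hsq q (hQA hqQ)) (by exact_mod_cast hpM) (hsq c hcA)
      (hAc q (hQA hqQ) c hcA) hc hqc ?_
    rw [(commute_opd_opd (hAc q (hQA hqQ) c hcA)).eq]
    exact hNN c hcA q hqQ
  push Not at htwo
  set Qb := Q ⊓ normalizer (K : Set H) with hQb
  have hindex : Nat.card Q ≤ 2 * Nat.card Qb := by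
    by_cases hQN : Q ≤ normalizer (K : Set H)
    · rw [hQb, inf_eq_left.2 hQN]; omega
    obtain ⟨q, hqQ, hq⟩ := SetLike.not_le_iff_exists.1 hQN
    let f : Qb × Bool → Q := fun r => if r.2 then
      ⟨q * (r.1 : H), mul_mem hqQ (inf_le_left (b := normalizer (K : Set H)) r.1.2)⟩ else
      ⟨(r.1 : H), inf_le_left (b := normalizer (K : Set H)) r.1.2⟩
    have hf : Function.Surjective f := by
      intro c
      by_cases hc : (c : H) ∈ normalizer (K : Set H)
      · exact ⟨(⟨c, c.2, hc⟩, false), rfl⟩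
      · have h := htwo q hqQ hq c (hQA c.2) hc
        refine ⟨(⟨q * c, mul_mem hqQ c.2, h⟩, true), Subtype.ext ?_⟩
        show q * (q * (c : H)) = c
        rw [← mul_assoc, hsq q (hQA hqQ), one_mul]
    calc Nat.card Q ≤ Nat.card (Qb × Bool) := Nat.card_le_card_of_surjective f hf
      _ = 2 * Nat.card Qb := by rw [Nat.card_prod, Nat.card_eq_fintype_card (α := Bool), Fintype.card_bool, mul_comm]
  by_cases hQbC : Qb ≤ centralizer (K : Set H)
  · obtain ⟨q, hqQ, hq⟩ : ∃ q ∈ Q, q ∉ normalizer (K : Set H) := by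
      by_contra h
      push Not at h
      exact hQC fun q hq => hQbC ⟨hq, h q hq⟩
    have hD : ∀ d ∈ Qb, σ d = 1 := fun d hd =>
      eq_one_of_centralizes hK hAc hT hq (hQA hd.1) (hQbC hd) (hNN q (hQA hqQ) d hd.1)
    have h4 := hQ2 Qb inf_le_left hD
    have hker : Nat.card {v : M // ∀ r ∈ Q, σ r v = v} ≤ Nat.card (kerOp (opd σ q)) :=
      Nat.card_le_card_of_injective (fun v => ⟨v.1, sub_eq_zero.2 (v.2 q hqQ)⟩)
        (fun v w h => Subtype.ext (Subtype.ext_iff.1 h :))
    have hle : Nat.card (imOp (opd σ q)) ≤ 2 := by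
      refine Nat.le_of_mul_le_mul_left
        (show Nat.card (kerOp (opd σ q)) * Nat.card (imOp (opd σ q)) ≤ Nat.card (kerOp (opd σ q)) * 2 from ?_)
        Nat.card_pos
      rw [card_kerOp_mul_imOp]
      refine Nat.le_of_mul_le_mul_right (h4.trans ?_) (Nat.card_pos (α := Qb))
      calc Nat.card Q * _ ≤ (2 * Nat.card Qb) * Nat.card (kerOp (opd σ q)) :=
            Nat.mul_le_mul hindex hker
        _ = _ := by ring
    refine trivial_of_transvection hK h2E hq (hself q (hQA hqQ)) ?_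
    by_cases hex : ∃ v, opd σ q v ≠ 0
    · obtain ⟨v₀, hv₀⟩ := hex
      refine ⟨opd σ q v₀, fun v => ?_⟩
      by_contra h
      push Not at h
      let e : Fin 3 → imOp (opd σ q) := ![⟨0, zero_mem _⟩, ⟨opd σ q v₀, v₀, rfl⟩, ⟨opd σ q v, v, rfl⟩]
      have he : Function.Injective e := by
        intro i j hij
        fin_cases i <;> fin_cases j <;> simp [e, Subtype.ext_iff] at hij ⊢
        all_goals first
          | exact absurd hij hv₀ | exact absurd hij.symm hv₀ | exact absurd hij h.1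
          | exact absurd hij.symm h.1 | exact absurd hij h.2 | exact absurd hij.symm h.2
      have := Nat.card_le_card_of_injective e he
      rw [Nat.card_eq_fintype_card, Fintype.card_fin] at this
      omega
    · push Not at hex
      exact ⟨0, fun v => Or.inl (hex v)⟩
  -- the counting case
  obtain ⟨b₀, hb₀, hb₀c⟩ := SetLike.not_le_iff_exists.1 hQbC
  have hfx : ∀ g ∈ K, g * (a * g * a⁻¹) ∈ fixSubgroup σ a := by
    intro g hg
    have h := zprod_mem_fixSubgroup (σ := σ) (p := 2) hK (hAp a haA) ha hb₀.2 hb₀c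
      (show b₀ ∈ fixSubgroup σ a from ⟨hAc a haA b₀ (hQA hb₀.1), hNN a haA b₀ hb₀.1⟩) hg
    simpa [zprod] using h
  have hga : ∀ g ∈ K, Commute g (a * g * a⁻¹) := fun g hg => hK.comm a ha g hg g hg
  have hfix1 : ∀ x ∈ K, Odd (orderOf x) → ∀ v, σ x v = v ↔ σ (a * x * a⁻¹) v = v := by
    intro x hx hodd v
    obtain ⟨hza, hz⟩ := hfx x hx
    refine ⟨fix_conj hodd (pow_orderOf_eq_one x) h2 (hga x hx) hza
      ((Commute.refl x).mul_right (hga x hx)) hz v, fun hv => ?_⟩
    set y := a * x * a⁻¹ with hy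
    have hay : a * y * a⁻¹ = x := by
      rw [hy, show a * (a * x * a⁻¹) * a⁻¹ = a * a * x * (a * a)⁻¹ by group, hsq a haA]; group
    have hym : y ^ orderOf x = 1 := by rw [hy, conj_pow, pow_orderOf_eq_one]; group
    have h' := fix_conj (σ := σ) (a := a) (x := y) hodd hym h2
      (by rw [hay]; exact (hga x hx).symm)
      (by rw [hay, ← (hga x hx).eq]; exact hza)
      (by rw [hay]; exact (Commute.refl y).mul_right (hga x hx).symm)
      (by rw [hay, ← (hga x hx).eq]; exact hz) v hv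
    rwa [hay] at h'
  let C0 : AddSubgroup M :=
    { carrier := {v | ∀ k ∈ K, σ k v = v}
      zero_mem' := fun k _ => map_zero _
      add_mem' := fun {v w} hv hw k hk => by rw [map_add, hv k hk, hw k hk]
      neg_mem' := fun {v} hv k hk => by rw [map_neg, hv k hk] }
  have hCx : ∀ x ∈ K, x ∉ centralizer (K : Set H) → Odd (orderOf x) → ∀ v, σ x v = v → v ∈ C0 := by
    intro x hx hxc hodd
    have inv : ∀ k ∈ K, ∀ v, σ x v = v → σ x (σ k v) = σ k v := by
      intro k hk v hv
      rw [hfix1 x hx hodd] at hv ⊢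
      show (σ (a * x * a⁻¹) * σ k) v = σ k v
      rw [← ((hK.comm a ha k hk x hx).map σ).eq]
      show σ k (σ (a * x * a⁻¹) v) = σ k v
      rw [hv]
    let X : Subgroup H :=
      { carrier := {h | ∀ v, σ x v = v → σ h v = v}
        one_mem' := fun v _ => by simp
        mul_mem' := fun {h h'} hh hh' v hv => by
          show σ (h * h') v = v
          rw [map_mul]; show σ h (σ h' v) = v
          rw [hh' v hv, hh v hv]
        inv_mem' := fun {h} hh v hv => by
          show σ h⁻¹ v = v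
          conv_lhs => rw [← hh v hv]
          exact DFunLike.congr_fun (σ_inv_mul h) v }
    have hxX : x ∈ X := fun v hv => hv
    intro v hv k hk
    refine hK.gen x (le_normalizer hx) hxc X ?_ hk v hv
    intro k hk
    rw [commutatorElement_def, mul_assoc x k, mul_assoc x]
    refine mul_mem hxX fun w hw => ?_
    rw [map_mul, map_mul]
    show σ k (σ x⁻¹ (σ k⁻¹ w)) = w
    rw [inv_mem hxX _ (inv k⁻¹ (inv_mem hk) w hw)]
    exact DFunLike.congr_fun (σ_mul_inv k) w
  have hC0K : ∀ g ∈ K, ∀ v ∈ C0, σ g v = v := fun g hg v hv => hv g hg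
  have hN0 : normalizer (K : Set H) ≤ stab σ C0 := by
    have key : ∀ e ∈ normalizer (K : Set H), ∀ v ∈ C0, σ e v ∈ C0 := by
      intro e he v hv k hk
      have hk' : e⁻¹ * k * e ∈ K := (mem_normalizer_iff''.1 he k).1 hk
      calc σ k (σ e v) = σ (k * e) v := by rw [map_mul]; rfl
        _ = σ (e * (e⁻¹ * k * e)) v := by rw [← mul_assoc, mul_inv_cancel_left]
        _ = σ e v := by rw [map_mul]; show σ e (σ (e⁻¹ * k * e) v) = _; rw [hv _ hk']
    intro e he v
    refine ⟨fun h => ?_, key e he v⟩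
    have h' := key e⁻¹ (inv_mem he) _ h
    rwa [show σ e⁻¹ (σ e v) = v from DFunLike.congr_fun (σ_inv_mul e) v] at h'
  obtain ⟨x₀, hx₀, hx₀c, hx₀odd, -⟩ := hinv rfl b₀ hb₀.2 (hsq _ (hQA hb₀.1)) hb₀c
  have haC0 : ∀ v ∈ C0, σ a v ∈ C0 := by
    intro v hv
    refine hCx x₀ hx₀ hx₀c hx₀odd _ ?_
    have hv1 := (hfix1 x₀ hx₀ hx₀odd v).1 (hv x₀ hx₀)
    calc σ x₀ (σ a v) = σ (x₀ * a) v := by rw [map_mul]; rfl
      _ = σ (a * (a * x₀ * a⁻¹)) v := by
        rw [← mul_assoc, ← mul_assoc, hsq a haA, one_mul, hself a haA]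
      _ = σ a v := by rw [map_mul]; show σ a (σ (a * x₀ * a⁻¹) v) = _; rw [hv1]
  have haS : a ∈ stab σ C0 := fun v => ⟨fun h => by
    have h' := haC0 _ h
    rwa [show σ a (σ a v) = v from DFunLike.congr_fun (show σ a * σ a = 1 by
      rw [← map_mul, hsq a haA, map_one]) v] at h', haC0 v⟩
  have hKS : K ≤ stab σ C0 := le_normalizer.trans hN0
  refine trivial_of_quotient hK hC0K ?_
  suffices hbar : ∀ g ∈ K.subgroupOf (stab σ C0), quoHom σ C0 g = 1 by
    intro g hg v
    have h := DFunLike.congr_fun (hbar ⟨g, hKS hg⟩ hg) (v : M ⧸ C0)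
    rw [quoHom_mk] at h
    exact (QuotientAddGroup.eq_iff_sub_mem).1 h
  set S := stab σ C0 with hS
  set τ := quoHom σ C0 with hτ
  set L := K.subgroupOf S with hL
  have hKS' : Comp L := hK.subgroupOf hKS
  set α : S := ⟨a, haS⟩ with hα
  have hαn : α ∉ normalizer (L : Set S) := by
    intro h
    refine ha (mem_normalizer_iff.2 fun z => ?_)
    constructor
    · intro hz
      exact (mem_normalizer_iff.1 h ⟨z, hKS hz⟩).1 hz
    · intro hz
      have hzS : z ∈ S := by
        have := mul_mem (mul_mem (inv_mem haS) (hKS hz)) haS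
        simpa [mul_assoc] using this
      exact (mem_normalizer_iff.1 h ⟨z, hzS⟩).2 hz
  by_cases hMC : ∀ v : M, v ∈ C0
  · intro g _
    exact AddMonoidHom.ext fun x => QuotientAddGroup.induction_on x fun v => by
      show ((σ (g : H) v : M) : M ⧸ C0) = (v : M ⧸ C0)
      exact QuotientAddGroup.eq_iff_sub_mem.2 (hMC _)
  have h2q : ∀ x : M ⧸ C0, x + x = 0 := fun x => QuotientAddGroup.induction_on x fun v => by
    rw [← QuotientAddGroup.mk_add, h2, QuotientAddGroup.mk_zero]
  have hfpf : ∀ x (hx : x ∈ K), x ∉ centralizer (K : Set H) → Odd (orderOf x) →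
      ∀ w : M ⧸ C0, τ ⟨x, hKS hx⟩ w = w → w = 0 := by
    intro x hx hxc hodd w hw
    induction w using QuotientAddGroup.induction_on with
    | H v =>
      rw [hτ, quoHom_mk, QuotientAddGroup.eq_iff_sub_mem] at hw
      rw [QuotientAddGroup.eq_zero_iff]
      have h1 : σ x (σ x v - v) = σ x v - v := hw x hx
      refine hCx x hx hxc hodd v (eq_of_sq_fixed hodd ?_ ?_)
      · rw [← map_pow, pow_orderOf_eq_one, map_one]
      · rw [map_sub, sub_eq_iff_eq_add] at h1
        rw [h1, show σ x v - v + σ x v = (σ x v + σ x v) - (v + v) + v by abel, h2, h2, sub_self, zero_add]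
  -- the involutions of `Qb` not centralizing `K`, as operators on the quotient
  let img : Set (AddMonoid.End (M ⧸ C0)) :=
    {f | ∃ b : S, (b : H) ∈ Qb ∧ (b : H) ∉ centralizer (K : Set H) ∧ τ b = f}
  haveI : Finite (AddMonoid.End (M ⧸ C0)) := Finite.of_injective (fun f => (f : M ⧸ C0 → M ⧸ C0))
    (fun f g h => AddMonoidHom.ext fun x => congrFun h x)
  haveI : Fintype img := Fintype.ofFinite _
  haveI : Nonempty img := ⟨⟨_, ⟨b₀, hN0 hb₀.2⟩, hb₀, hb₀c, rfl⟩⟩
  choose β hβQ hβc hβ using fun i : img => i.2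
  have hX : ∀ i : img, ∃ x ∈ K, x ∉ centralizer (K : Set H) ∧ Odd (orderOf x) ∧
      (β i : H) * x * (β i : H)⁻¹ = x⁻¹ :=
    fun i => hinv rfl _ (hβQ i).2 (hsq _ (hQA (hβQ i).1)) (hβc i)
  choose x hxK hxc hxodd hxb using hX
  let X : img → S := fun i => ⟨x i, hKS (hxK i)⟩
  let Y : img → S := fun i => α * X i * α⁻¹
  have hαα : α * α = 1 := Subtype.ext (hsq a haA)
  have hββ : ∀ i, β i * β i = 1 := fun i => Subtype.ext (hsq _ (hQA (hβQ i).1))
  have hαβ : ∀ i, Commute α (β i) := fun i => Subtype.ext (hAc a haA _ (hQA (hβQ i).1))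
  have hXm : ∀ i, X i ^ orderOf (x i) = 1 := fun i => Subtype.ext (pow_orderOf_eq_one (x i))
  have hYm : ∀ i, Y i ^ orderOf (x i) = 1 := fun i => by
    show (α * X i * α⁻¹) ^ orderOf (x i) = 1
    rw [conj_pow, hXm]; group
  have hbX : ∀ i, β i * X i * β i * X i = 1 := fun i => by
    have h1 : β i * X i * (β i)⁻¹ = (X i)⁻¹ := Subtype.ext (hxb i)
    rw [inv_eq_of_mul_eq_one_right (hββ i)] at h1
    rw [h1, inv_mul_cancel]
  by_cases hne : ∀ i, τ α * τ (β i) ≠ 1
  swap
  · push Not at hne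
    obtain ⟨i, hi⟩ := hne
    have hab : τ α = τ (β i) := by
      calc τ α = τ α * (τ (β i) * τ (β i)) := by rw [← map_mul, hββ, map_one, mul_one]
        _ = _ := by rw [← mul_assoc, hi, one_mul]
    refine trivial_of_commute hKS'.perfect fun g hg k hk => ?_
    have hg1 : (β i)⁻¹ * g * β i ∈ L := by
      show (((β i)⁻¹ * g * β i : S) : H) ∈ K
      simpa [coe_mul, coe_inv] using (mem_normalizer_iff''.1 (hβQ i).2 (g : H)).1 hg
    have he : τ (α * ((β i)⁻¹ * g * β i) * α⁻¹) = τ g := by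
      have hinv : τ α⁻¹ = τ (β i)⁻¹ := by
        rw [inv_eq_of_mul_eq_one_right hαα, inv_eq_of_mul_eq_one_right (hββ i), hab]
      rw [map_mul, map_mul, hab, hinv, ← map_mul, ← map_mul]
      congr 1; group
    have h := ((hKS'.comm α hαn k hk _ hg1).map τ).symm
    rwa [he] at h
  have hNq : ∀ {u w : S}, opd σ (u : H) * opd σ (w : H) = 0 → opd τ u * opd τ w = 0 := by
    intro u w h
    refine AddMonoidHom.ext fun z => QuotientAddGroup.induction_on z fun v => ?_
    show τ u (τ w v - v) - (τ w v - v) = 0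
    rw [hτ, quoHom_mk, ← QuotientAddGroup.mk_sub, quoHom_mk, ← QuotientAddGroup.mk_sub]
    have h' := DFunLike.congr_fun h v
    change σ u (σ w v - v) - (σ w v - v) = 0 at h'
    rw [h', QuotientAddGroup.mk_zero]
  have hD0 : ∀ d ∈ Q ⊓ centralizer (K : Set H), σ d = 1 := fun d hd =>
    eq_one_of_centralizes hK hAc hT ha (hQA hd.1) hd.2 (hNN a haA d hd.1)
  have hdist : ∀ u w : S, (u : H) ∈ Qb → (w : H) ∈ Qb → τ u = τ w →
      ((u : H)⁻¹ * w) ∈ centralizer (K : Set H) := by
    intro u w hu hw huw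
    by_contra hc
    obtain ⟨y, hy, hyc, hyodd, hby⟩ := hinv rfl _ (mul_mem (inv_mem hu.2) hw.2)
      (hsq _ (mul_mem (inv_mem (hQA hu.1)) (hQA hw.1))) hc
    have h1 : τ (u⁻¹ * w) = 1 := by rw [map_mul, ← huw, ← map_mul, inv_mul_cancel, map_one]
    have h1' : τ (u⁻¹ * w)⁻¹ = 1 := by
      rw [inv_eq_of_mul_eq_one_right (show (u⁻¹ * w) * (u⁻¹ * w) = 1 from
        Subtype.ext (hsq _ (mul_mem (inv_mem (hQA hu.1)) (hQA hw.1))))]
      exact h1
    set Ys : S := ⟨y, hKS hy⟩ with hYs
    have h2' : τ (u⁻¹ * w) * τ Ys * τ (u⁻¹ * w)⁻¹ = τ Ys⁻¹ := by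
      rw [← map_mul, ← map_mul]; exact congrArg τ (Subtype.ext hby)
    rw [h1, h1', one_mul, mul_one] at h2'
    refine hMC fun v => (QuotientAddGroup.eq_zero_iff v).1 (hfpf y hy hyc hyodd _ ?_)
    refine eq_of_sq_fixed hyodd ?_ ?_
    · rw [← map_pow]
      exact (congrArg τ (Subtype.ext (pow_orderOf_eq_one y))).trans (map_one τ)
    · show (τ Ys * τ Ys) (v : M ⧸ C0) = v
      nth_rw 1 [h2']
      rw [← map_mul, inv_mul_cancel, map_one]; rfl
  have hsize : Nat.card (M ⧸ C0) ≤
      Nat.card {w : M ⧸ C0 // ∀ i : img, τ (β i) w = w} * (2 * (Fintype.card img + 1)) := by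
    have hM : Nat.card M = Nat.card (M ⧸ C0) * Nat.card C0 :=
      AddSubgroup.card_eq_card_quotient_mul_card_addSubgroup C0
    have h4 := hQ2 _ inf_le_left hD0
    have hQbcard : Nat.card Qb ≤ Nat.card (Q ⊓ centralizer (K : Set H) : Subgroup H) * (Fintype.card img + 1) := by
      let F : Qb → Option img := fun b =>
        if hb : (b : H) ∈ centralizer (K : Set H) then none
        else some ⟨_, ⟨b, hN0 b.2.2⟩, b.2, hb, rfl⟩
      have key : ∀ b b' : Qb, F b = F b' → (b : H)⁻¹ * b' ∈ centralizer (K : Set H) := by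
        intro b b' h
        by_cases hb : (b : H) ∈ centralizer (K : Set H) <;>
          by_cases hb' : (b' : H) ∈ centralizer (K : Set H) <;> simp [F, hb, hb'] at h
        · exact mul_mem (inv_mem hb) hb'
        · exact hdist ⟨b, hN0 b.2.2⟩ ⟨b', hN0 b'.2.2⟩ b.2 b'.2 h
      let G' : Qb → (Q ⊓ centralizer (K : Set H) : Subgroup H) × Option img := fun b =>
        (⟨((Function.invFun F (F b) : Qb) : H)⁻¹ * b,
          Subgroup.mem_inf.2 ⟨mul_mem (inv_mem (Function.invFun F (F b)).2.1) b.2.1,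
          key _ _ (Function.invFun_eq ⟨b, rfl⟩)⟩⟩, F b)
      have hG' : Function.Injective G' := fun b b' h => by
        simp only [G', Prod.mk.injEq, Subtype.mk.injEq] at h
        rw [h.2] at h
        exact Subtype.ext (mul_left_cancel h.1)
      refine (Nat.card_le_card_of_injective G' hG').trans_eq ?_
      rw [Nat.card_prod, Nat.card_eq_fintype_card (α := Option img), Fintype.card_option]
    have hfixcard : Nat.card {v : M // ∀ q ∈ Q, σ q v = v} ≤
        Nat.card {w : M ⧸ C0 // ∀ i : img, τ (β i) w = w} * Nat.card C0 := by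
      let G' : {v : M // ∀ q ∈ Q, σ q v = v} →
          {w : M ⧸ C0 // ∀ i : img, τ (β i) w = w} × C0 := fun v =>
        (⟨(v.1 : M ⧸ C0), fun i => by rw [hτ, quoHom_mk, v.2 _ (hβQ i).1]⟩,
          ⟨v.1 - ((v.1 : M ⧸ C0)).out, QuotientAddGroup.eq_iff_sub_mem.1 (QuotientAddGroup.out_eq' _).symm⟩)
      have hG' : Function.Injective G' := fun v w h => by
        simp only [G', Prod.mk.injEq, Subtype.mk.injEq] at h
        rw [h.1] at h
        exact Subtype.ext (sub_left_injective h.2)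
      exact (Nat.card_le_card_of_injective G' hG').trans_eq (Nat.card_prod _ _)
    refine Nat.le_of_mul_le_mul_right ?_ (Nat.card_pos (α := C0))
    refine Nat.le_of_mul_le_mul_right ?_
      (Nat.card_pos (α := (Q ⊓ centralizer (K : Set H) : Subgroup H)))
    rw [← hM]
    calc _ ≤ Nat.card Q * Nat.card {v : M // ∀ q ∈ Q, σ q v = v} := h4
      _ ≤ (2 * (Nat.card (Q ⊓ centralizer (K : Set H) : Subgroup H) * (Fintype.card img + 1))) *
            (Nat.card {w : M ⧸ C0 // ∀ i : img, τ (β i) w = w} * Nat.card C0) :=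
          Nat.mul_le_mul (hindex.trans (Nat.mul_le_mul_left 2 hQbcard)) hfixcard
      _ = _ := by ring
  have hle := card_imOp_le_two h2q (fun i : img => τ (β i)) (τ α) (fun i => τ (X i)) (fun i => τ (Y i))
    (fun i => orderOf (x i)) (by rw [← map_mul, hαα, map_one]) (fun i => (hαβ i).map τ)
    (fun i j => hNq (hNN _ (hQA (hβQ i).1) _ (hβQ j).1))
    (fun i => hNq (hNN a haA _ (hβQ i).1))
    (fun i j hij => ?_) (fun i => by rw [← map_mul, hββ, map_one]) hxodd
    (fun i => by rw [← map_pow, hXm, map_one]) (fun i => by rw [← map_pow, hYm, map_one])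
    (fun i => Commute.map (show Commute (X i) (Y i) from Subtype.ext (hga (x i) (hxK i)).eq) τ) (fun i => hfpf (x i) (hxK i) (hxc i) (hxodd i))
    (fun i => by rw [← map_mul τ (X i)]; exact hNq (hfx (x i) (hxK i)).2)
    (fun i => by
      show τ α * τ (X i) = τ (α * X i * α⁻¹) * τ α
      rw [← map_mul, ← map_mul, inv_mul_cancel_right])
    (fun i => by rw [← map_mul, ← map_mul, ← map_mul, hbX, map_one])
    (fun i => ?_) hne hsize
  · refine trivial_of_transvection hKS' (fun z => AddMonoidHom.ext fun w => h2q (z w)) hαn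
      (inv_eq_of_mul_eq_one_right hαα) ?_
    change Nat.card (imOp (opd τ α)) ≤ 2 at hle
    by_cases hex : ∃ v, opd τ α v ≠ 0
    · obtain ⟨v₀, hv₀⟩ := hex
      refine ⟨opd τ α v₀, fun v => ?_⟩
      by_contra h
      push Not at h
      let e : Fin 3 → imOp (opd τ α) := ![⟨0, zero_mem _⟩, ⟨opd τ α v₀, v₀, rfl⟩, ⟨opd τ α v, v, rfl⟩]
      have he : Function.Injective e := by
        intro i j hij
        fin_cases i <;> fin_cases j <;> simp [e, Subtype.ext_iff] at hij ⊢
        all_goals first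
          | exact absurd hij hv₀ | exact absurd hij.symm hv₀ | exact absurd hij h.1
          | exact absurd hij.symm h.1 | exact absurd hij h.2 | exact absurd hij.symm h.2
      have := Nat.card_le_card_of_injective e he
      rw [Nat.card_eq_fintype_card, Fintype.card_fin] at this
      omega
    · push Not at hex
      exact ⟨0, fun v => Or.inl (hex v)⟩
  · by_cases hc : ((β i * β j : S) : H) ∈ centralizer (K : Set H)
    · exfalso
      refine hij (Subtype.ext ?_)
      rw [← hβ i, ← hβ j]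
      have h1 : τ (β i * β j) = 1 := by
        refine AddMonoidHom.ext fun z => QuotientAddGroup.induction_on z fun v => ?_
        show ((σ ((β i * β j : S) : H) v : M) : M ⧸ C0) = (v : M ⧸ C0)
        rw [Subgroup.coe_mul, hD0 _ ⟨mul_mem (hβQ i).1 (hβQ j).1, hc⟩]; rfl
      calc τ (β i) = τ (β i) * (τ (β j) * τ (β j)) := by rw [← map_mul, hββ, map_one, mul_one]
        _ = τ (β j) := by rw [← mul_assoc, ← map_mul, h1, one_mul]
    · refine ⟨⟨_, β i * β j, mul_mem (hβQ i) (hβQ j), hc, rfl⟩, ?_⟩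
      rw [← map_mul, hβ ⟨τ (β i * β j), β i * β j, mul_mem (hβQ i) (hβQ j), hc, rfl⟩]
  · rw [← map_mul, ← map_mul, ← map_mul]
    refine (congrArg τ ?_).trans (map_one τ)
    show β i * (α * X i * α⁻¹) * β i * (α * X i * α⁻¹) = 1
    rw [inv_eq_of_mul_eq_one_right hαα]
    calc β i * (α * X i * α) * β i * (α * X i * α)
        = α * (β i * X i * β i * X i) * α := by
          rw [show β i * (α * X i * α) = α * (β i * X i) * α by
            rw [← mul_assoc, ← mul_assoc, ← (hαβ i).eq]; simp only [mul_assoc]]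
          rw [show α * (β i * X i) * α * β i = α * (β i * X i) * β i * α by
            rw [mul_assoc (α * (β i * X i)), (hαβ i).eq, ← mul_assoc]]
          rw [show α * (β i * X i) * β i * α * (α * X i * α) =
            α * (β i * X i) * β i * (α * α) * X i * α by simp only [mul_assoc]]
          rw [hαα, mul_one]; simp only [mul_assoc]
      _ = 1 := by rw [hbX, mul_one, hαα]

end CfsgLib.PGV
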