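/-
Best offenders on a module: replacement and the data for the offender theorem.
-/
import Cfsg.Agent.PGV.Core
import Cfsg.Agent.PGV.Component
import Cfsg.Agent.PLocal.Replacement
import Cfsg.Prelude.Def_PLocal

set_option autoImplicit false
set_option linter.style.haveILetI false

namespace CfsgLib.PGV

open Subgroup CfsgLib.PLocal
open scoped commutatorElement

variable {G V : Type*} [Group G] [AddCommGroup V] (σ : G →* AddMonoid.End V)

/-- The action as automorphisms of `Multiplicative V`. -/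
def mulAct : G →* MulAut (Multiplicative V) where
  toFun g :=
    { toFun := fun v => Multiplicative.ofAdd (σ g v.toAdd)
      invFun := fun v => Multiplicative.ofAdd (σ g⁻¹ v.toAdd)
      left_inv := fun v => congrArg Multiplicative.ofAdd (DFunLike.congr_fun (σ_inv_mul (σ := σ) g) v.toAdd)
      right_inv := fun v => congrArg Multiplicative.ofAdd (DFunLike.congr_fun (σ_mul_inv (σ := σ) g) v.toAdd)
      map_mul' := fun v w => congrArg Multiplicative.ofAdd (map_add (σ g) v.toAdd w.toAdd) }
  map_one' := MulEquiv.ext fun v => by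
    show Multiplicative.ofAdd (σ 1 v.toAdd) = v
    rw [map_one]; rfl
  map_mul' g h := MulEquiv.ext fun v => by
    show Multiplicative.ofAdd (σ (g * h) v.toAdd) = _
    rw [map_mul]; rfl

/-- The semidirect product of `V` by the acting group. -/
abbrev Sd := Multiplicative V ⋊[mulAct σ] G

/-- An element of `V` inside the semidirect product. -/
def emb (v : V) : Sd σ := SemidirectProduct.inl (Multiplicative.ofAdd v)

theorem emb_injective : Function.Injective (emb σ) := fun _ _ h =>
  Multiplicative.ofAdd.injective (SemidirectProduct.inl_injective h)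

theorem inr_conj_emb (g : G) (v : V) :
    (SemidirectProduct.inr g : Sd σ) * emb σ v * (SemidirectProduct.inr g)⁻¹ = emb σ (σ g v) :=
  by rw [← map_inv]; exact (SemidirectProduct.inl_aut (φ := mulAct σ) g _).symm

theorem commute_emb_iff (g : G) (v : V) :
    (SemidirectProduct.inr g : Sd σ) * emb σ v = emb σ v * SemidirectProduct.inr g ↔ σ g v = v := by
  rw [← mul_inv_eq_iff_eq_mul, inr_conj_emb]
  exact (emb_injective σ).eq_iff

theorem commutator_emb (v : V) (g : G) :
    ⁅emb σ v, (SemidirectProduct.inr g : Sd σ)⁆ = emb σ (v - σ g v) := by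
  have h : (emb σ v)⁻¹ = emb σ (-v) := (map_inv SemidirectProduct.inl (Multiplicative.ofAdd v)).symm
  rw [commutatorElement_def, mul_assoc (emb σ v), mul_assoc (emb σ v), h, inr_conj_emb, emb, emb,
    ← map_mul, map_neg, ← ofAdd_add, ← sub_eq_add_neg]
  rfl

/-- The copy of an additive subgroup of `V`. -/
def embGroup (U : AddSubgroup V) : Subgroup (Sd σ) :=
  (AddSubgroup.toSubgroup U).map SemidirectProduct.inl

theorem mem_embGroup {U : AddSubgroup V} {x : Sd σ} : x ∈ embGroup σ U ↔ ∃ u ∈ U, emb σ u = x :=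
  ⟨fun ⟨m, hm, h⟩ => ⟨m.toAdd, hm, h⟩, fun ⟨u, hu, h⟩ => ⟨Multiplicative.ofAdd u, hu, h⟩⟩

theorem emb_mem_embGroup {U : AddSubgroup V} {v : V} : emb σ v ∈ embGroup σ U ↔ v ∈ U := by
  rw [mem_embGroup]
  exact ⟨fun ⟨u, hu, h⟩ => emb_injective σ h ▸ hu, fun h => ⟨v, h, rfl⟩⟩

theorem card_fixed (B : Subgroup G) :
    Nat.card ↥(embGroup σ ⊤ ⊓ centralizer ((B.map SemidirectProduct.inr : Subgroup (Sd σ)) : Set (Sd σ))) =
      Nat.card {v : V // ∀ b ∈ B, σ b v = v} := by
  refine (Nat.card_congr (Equiv.ofBijective (fun v : {v : V // ∀ b ∈ B, σ b v = v} =>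
    (⟨emb σ v.1, Subgroup.mem_inf.2 ⟨(emb_mem_embGroup σ).2 trivial, mem_centralizer_iff.2
      fun _ ⟨b, hb, he⟩ => he ▸ (commute_emb_iff σ b v.1).2 (v.2 b hb)⟩⟩ :
      ↥(embGroup σ ⊤ ⊓ centralizer ((B.map SemidirectProduct.inr : Subgroup (Sd σ)) : Set (Sd σ)))))
    ⟨fun v w h => Subtype.ext (emb_injective σ (Subtype.ext_iff.1 h :)), fun x => ?_⟩)).symm
  obtain ⟨v, -, hv⟩ := (mem_embGroup σ).1 x.2.1
  refine ⟨⟨v, fun b hb => ?_⟩, Subtype.ext hv⟩
  refine (commute_emb_iff σ b v).1 ?_
  rw [hv]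
  exact mem_centralizer_iff.1 x.2.2 _ ⟨b, hb, rfl⟩

/-- The subgroup generated by the elements `t - σ a t`. -/
def commSpace (T : AddSubgroup V) (A : Subgroup G) : AddSubgroup V :=
  AddSubgroup.closure {v | ∃ t ∈ T, ∃ a ∈ A, v = t - σ a t}

/-- The elements of `A` fixing `[T,A]`. -/
def replace (T : AddSubgroup V) (A : Subgroup G) : Subgroup G :=
  (A.map SemidirectProduct.inr ⊓
    centralizer ((⁅embGroup σ T, A.map SemidirectProduct.inr⁆ : Subgroup (Sd σ)) : Set (Sd σ))).comap
    SemidirectProduct.inr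

theorem commutator_embGroup (T : AddSubgroup V) (A : Subgroup G) :
    ⁅embGroup σ T, A.map SemidirectProduct.inr⁆ = embGroup σ (commSpace σ T A) := by
  refine le_antisymm (commutator_le.2 fun x hx y hy => ?_) fun x hx => ?_
  · obtain ⟨t, ht, rfl⟩ := (mem_embGroup σ).1 hx
    obtain ⟨a, ha, rfl⟩ := hy
    rw [commutator_emb]
    exact (emb_mem_embGroup σ).2 (AddSubgroup.subset_closure ⟨t, ht, a, ha, rfl⟩)
  · obtain ⟨u, hu, rfl⟩ := (mem_embGroup σ).1 hx
    let P : AddSubgroup V :=
      { carrier := {v : V | emb σ v ∈ (⁅embGroup σ T, A.map SemidirectProduct.inr⁆ : Subgroup (Sd σ))}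
        zero_mem' := by
          simp only [Set.mem_setOf_eq]
          rw [show emb σ 0 = 1 from map_one SemidirectProduct.inl]
          exact one_mem _
        add_mem' := fun {v w} hv hw => by
          simp only [Set.mem_setOf_eq] at hv hw ⊢
          rw [show emb σ (v + w) = emb σ v * emb σ w from
            map_mul SemidirectProduct.inl (Multiplicative.ofAdd v) (Multiplicative.ofAdd w)]
          exact mul_mem hv hw
        neg_mem' := fun {v} hv => by
          simp only [Set.mem_setOf_eq] at hv ⊢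
          rw [show emb σ (-v) = (emb σ v)⁻¹ from map_inv SemidirectProduct.inl (Multiplicative.ofAdd v)]
          exact inv_mem hv }
    refine (AddSubgroup.closure_le P).2 ?_ hu
    rintro _ ⟨t, ht, a, ha, rfl⟩
    simp only [P, SetLike.mem_coe, AddSubgroup.mem_mk, AddSubmonoid.mem_mk, AddSubsemigroup.mem_mk, Set.mem_setOf_eq]
    rw [← commutator_emb]
    exact commutator_mem_commutator ((emb_mem_embGroup σ).2 ht) (mem_map_of_mem _ ha)

theorem replace_le (T : AddSubgroup V) (A : Subgroup G) : replace σ T A ≤ A := fun q hq => by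
  obtain ⟨a, ha, he⟩ := hq.1
  exact SemidirectProduct.inr_injective he ▸ ha

theorem fixed_of_mem_replace {T : AddSubgroup V} {A : Subgroup G} {q : G} (hq : q ∈ replace σ T A)
    {v : V} (hv : v ∈ commSpace σ T A) : σ q v = v := by
  refine (commute_emb_iff σ q v).1 ?_
  refine (mem_centralizer_iff.1 hq.2 _ ?_).symm
  rw [commutator_embGroup]
  exact (emb_mem_embGroup σ).2 hv

variable [Finite G] [Finite V] {p : ℕ} [Fact p.Prime] (hp0 : ∀ v : V, p • v = 0) {A : Subgroup G}
  (hA : Cfsg.IsElementaryAbelian p A)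
  (hbest : ∀ B : Subgroup G, B ≤ A → Nat.card B * Nat.card {v : V // ∀ b ∈ B, σ b v = v} ≤
    Nat.card A * Nat.card {v : V // ∀ a ∈ A, σ a v = v})
  {T : AddSubgroup V} (hTA : ∀ a ∈ A, ∀ t ∈ T, σ a t ∈ T)
include hp0 hA hbest hTA

theorem replace_spec :
    (∀ D : Subgroup G, D ≤ replace σ T A → (∀ d ∈ D, ∀ t ∈ T, σ d t = t) →
      Nat.card T * Nat.card D ≤
        Nat.card (replace σ T A) * Nat.card {t : T // ∀ q ∈ replace σ T A, σ q t.1 = t.1}) ∧
    ((∀ q ∈ replace σ T A, ∀ t ∈ T, σ q t = t) → ∀ a ∈ A, ∀ t ∈ T, σ a t = t) := by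
  classical
  haveI : Finite (Sd σ) := Finite.of_equiv _ SemidirectProduct.equivProd.symm
  set inr : G →* Sd σ := SemidirectProduct.inr
  set W := embGroup σ ⊤
  set A' := A.map inr with hA'
  have hWel : IsMulCommutative W := by
    refine ⟨⟨fun x y => Subtype.ext ?_⟩⟩
    obtain ⟨u, -, hu⟩ := (mem_embGroup σ).1 x.2
    obtain ⟨v, -, hv⟩ := (mem_embGroup σ).1 y.2
    show (x : Sd σ) * y = y * x
    rw [← hu, ← hv]
    show SemidirectProduct.inl _ * SemidirectProduct.inl _ = SemidirectProduct.inl _ * SemidirectProduct.inl _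
    rw [← map_mul (SemidirectProduct.inl : Multiplicative V →* Sd σ), ← map_mul (SemidirectProduct.inl : Multiplicative V →* Sd σ), mul_comm]
  have hnorm : ∀ {U : AddSubgroup V}, (∀ a ∈ A, ∀ t ∈ U, σ a t ∈ U) →
      A' ≤ normalizer (embGroup σ U : Set (Sd σ)) := by
    intro U hU x hx
    obtain ⟨a, ha, rfl⟩ := hx
    refine mem_normalizer_iff.2 fun z => ⟨fun hz => ?_, fun hz => ?_⟩
    · obtain ⟨u, hu, rfl⟩ := (mem_embGroup σ).1 hz
      rw [inr_conj_emb]
      exact (emb_mem_embGroup σ).2 (hU a ha u hu)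
    · obtain ⟨u, hu, he⟩ := (mem_embGroup σ).1 hz
      have hz' : z = emb σ (σ a⁻¹ u) := by
        rw [← inr_conj_emb, map_inv, he]; simp [inr, mul_assoc]
      rw [hz']
      exact (emb_mem_embGroup σ).2 (hU _ (inv_mem ha) u hu)
  have hWn : A' ≤ normalizer (W : Set (Sd σ)) := hnorm fun _ _ _ _ => trivial
  have hab : ⁅A', A'⁆ ≤ centralizer (W : Set (Sd σ)) := by
    rw [← map_commutator, commutator_self_eq_bot_iff.mpr hA.1, Subgroup.map_bot]
    exact bot_le
  have hcardmap : ∀ B : Subgroup G, Nat.card (B.map inr) = Nat.card B :=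
    fun B => card_map_of_injective SemidirectProduct.inr_injective
  have hw : ∀ B : Subgroup G, offenderWeight W (B.map inr) =
      Nat.card B * Nat.card {v : V // ∀ b ∈ B, σ b v = v} := fun B => by
    rw [offenderWeight, hcardmap, card_fixed]
  have hmax : ∀ B : Subgroup (Sd σ), B ≤ A' → offenderWeight W B ≤ offenderWeight W A' := by
    intro B hB
    rw [← map_comap_eq_self (le_trans hB (map_le_range inr A)), hA', hw, hw]
    refine hbest _ fun b hb => ?_
    obtain ⟨a, ha, he⟩ := hB hb
    exact SemidirectProduct.inr_injective he ▸ ha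
  obtain ⟨hwQ, hfixQ⟩ := replacement hWel hWn hab hmax (U := embGroup σ T)
    (Subgroup.map_mono (fun _ _ => trivial))
  set Q := replace σ T A with hQ
  have hQmap : Q.map inr = A' ⊓ centralizer ((⁅embGroup σ T, A'⁆ : Subgroup (Sd σ)) : Set (Sd σ)) :=
    map_comap_eq_self (inf_le_left.trans (map_le_range inr A))
  rw [← hQmap] at hwQ hfixQ
  refine ⟨fun D hD hDT => ?_, fun hQT => ?_⟩
  · rw [hA', hw, hw] at hwQ
    have h1 := (hbest D (hD.trans (replace_le σ T A))).trans_eq hwQ.symm
    set FQ := {v : V // ∀ q ∈ Q, σ q v = v}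
    set FD := {v : V // ∀ d ∈ D, σ d v = v}
    haveI : Nonempty FQ := ⟨⟨0, fun q _ => map_zero _⟩⟩
    haveI : Nonempty (T × FQ) := ⟨(0, Classical.arbitrary FQ)⟩
    let f : T × FQ → FD := fun r => ⟨r.1.1 + r.2.1, fun d hd => by
      rw [map_add, hDT d hd _ r.1.2, r.2.2 d (hD hd)]⟩
    let F' := {t : T // ∀ q ∈ Q, σ q t.1 = t.1}
    -- two pairs with the same sum differ by a fixed point of `Q` in `T`
    let g : T × FQ → FD × F' := fun r =>
      (f r, ⟨r.1 - (Function.invFun f (f r)).1, fun q hq => by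
        have he : (f (Function.invFun f (f r))).1 = (f r).1 :=
          congrArg Subtype.val (Function.invFun_eq (f := f) ⟨r, rfl⟩)
        change (Function.invFun f (f r)).1.1 + (Function.invFun f (f r)).2.1 = r.1.1 + r.2.1 at he
        have he' : r.1.1 - (Function.invFun f (f r)).1.1 = (Function.invFun f (f r)).2.1 - r.2.1 := by
          rw [sub_eq_sub_iff_add_eq_add, ← he]; abel
        show σ q (r.1.1 - _) = r.1.1 - _
        rw [he', map_sub, (Function.invFun f (f r)).2.2 q hq, r.2.2 q hq]⟩)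
    have hg : Function.Injective g := fun r r' h => by
      simp only [g, Prod.mk.injEq, Subtype.mk.injEq] at h
      have h4 : r.1 - (Function.invFun f (f r)).1 = r'.1 - (Function.invFun f (f r')).1 :=
        congrArg Subtype.val h.2
      rw [congrArg (fun x => (Function.invFun f x).1) h.1, sub_left_inj] at h4
      have h3 : r.1.1 + r.2.1 = r'.1.1 + r'.2.1 := congrArg Subtype.val h.1
      rw [h4] at h3
      exact Prod.ext h4 (Subtype.ext (add_left_cancel h3))
    have h2 := Nat.card_le_card_of_injective g hg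
    rw [Nat.card_prod, Nat.card_prod] at h2
    haveI : Nonempty FD := ⟨⟨0, fun q _ => map_zero _⟩⟩
    refine Nat.le_of_mul_le_mul_right ?_ (Nat.card_pos (α := FQ))
    calc Nat.card T * Nat.card D * Nat.card FQ = Nat.card D * (Nat.card T * Nat.card FQ) := by ring
      _ ≤ Nat.card D * (Nat.card FD * Nat.card F') := Nat.mul_le_mul_left _ h2
      _ = Nat.card D * Nat.card FD * Nat.card F' := by ring
      _ ≤ Nat.card Q * Nat.card FQ * Nat.card F' := Nat.mul_le_mul_right _ h1
      _ = _ := by ring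
  · set X := ⁅embGroup σ T, A'⁆ with hX
    have hXW : X ≤ W := by rw [hX, commutator_embGroup]; exact Subgroup.map_mono (fun _ _ => trivial)
    have hle : embGroup σ T ≤ X ⊔ (W ⊓ centralizer (A' : Set (Sd σ))) := by
      rw [← hfixQ]
      intro x hx
      obtain ⟨t, ht, rfl⟩ := (mem_embGroup σ).1 hx
      refine ⟨(emb_mem_embGroup σ).2 trivial, mem_centralizer_iff.2 ?_⟩
      rintro _ ⟨q, hq, rfl⟩
      exact (commute_emb_iff σ q t).2 (hQT q hq t ht)
    have hXA : X ≤ ⁅X, A'⁆ := by
      refine commutator_le.2 fun u hu a ha => ?_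
      have hCn : W ⊓ centralizer (A' : Set (Sd σ)) ≤ normalizer (X : Set (Sd σ)) :=
        inf_le_left.trans ((le_centralizer_iff_isMulCommutative.mpr hWel).trans
          ((centralizer_le hXW).trans (centralizer_le_normalizer _)))
      obtain ⟨w, hw, c, hc, rfl⟩ := CfsgLib.Coprime.exists_mul_of_mem_sup hCn (hle hu)
      rw [commutatorElement_mul_left_of_abelian hWel (hXW hw) hc.1 (hWn ha),
        commutatorElement_eq_one_iff_mul_comm.mpr (mem_centralizer_iff.mp hc.2 a ha).symm, mul_one]
      exact commutator_mem_commutator hw ha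
    have hXbot : X = ⊥ := by
      refine eq_bot_of_le_commutator (p := p) ?_ (normalizer_commutator_ge_right _ _) ?_ hXA
      · intro x
        refine ⟨1, Subtype.ext ?_⟩
        obtain ⟨v, -, hv⟩ := (mem_embGroup σ).1 (hXW x.2)
        show (x : Sd σ) ^ p ^ 1 = 1
        rw [← hv, pow_one, emb, ← map_pow, ← ofAdd_nsmul, hp0, ofAdd_zero, map_one]
      · rintro _ ⟨a, ha, rfl⟩
        rw [← map_pow, hA.2 a ha, map_one]
        exact one_mem _
    intro a ha t ht
    have h := commutator_mem_commutator ((emb_mem_embGroup σ).2 ht) (mem_map_of_mem inr ha)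
    rw [← hX, hXbot, mem_bot, commutator_emb] at h
    exact (sub_eq_zero.1 (emb_injective σ (h.trans (map_one SemidirectProduct.inl).symm))).symm

end CfsgLib.PGV
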