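/-
A best offender on a faithful module normalizes every component.
-/
import Cfsg.Agent.PGV.Module

set_option autoImplicit false
set_option linter.style.haveILetI false

namespace CfsgLib.PGV

open Subgroup
open scoped commutatorElement

variable {G V : Type*} [Group G] [AddCommGroup V]

/-- The action on an invariant subgroup. -/
def subHom (σ : G →* AddMonoid.End V) (T : AddSubgroup V) : stab σ T →* AddMonoid.End T where
  toFun e := ((σ (e : G) : V →+ V).comp T.subtype).codRestrict T fun t => (e.2 t.1).2 t.2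
  map_one' := AddMonoidHom.ext fun t => Subtype.ext (by
    show σ (1 : G) (t : V) = t
    rw [map_one]; rfl)
  map_mul' e f := AddMonoidHom.ext fun t => Subtype.ext (by
    show σ ((e : G) * f) (t : V) = σ (e : G) (σ (f : G) (t : V))
    rw [map_mul]; rfl)

theorem le_normalizer_of_best [Finite G] [Finite V] {p : ℕ} [Fact p.Prime]
    (σ : G →* AddMonoid.End V) (hinj : Function.Injective σ) (hp0 : ∀ v : V, p • v = 0)
    {A : Subgroup G} (hA : Cfsg.IsElementaryAbelian p A)
    (hbest : ∀ B : Subgroup G, B ≤ A → Nat.card B * Nat.card {v : V // ∀ b ∈ B, σ b v = v} ≤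
      Nat.card A * Nat.card {v : V // ∀ a ∈ A, σ a v = v})
    {K : Subgroup G} (hc : Cfsg.IsComponent K) : A ≤ normalizer (K : Set G) := by
  classical
  by_contra hcon
  obtain ⟨a, haA, ha⟩ := SetLike.not_le_iff_exists.1 hcon
  have hK := comp_of_component hc
  have hAc : ∀ x ∈ A, ∀ y ∈ A, Commute x y := fun x hx y hy =>
    CfsgLib.PLocal.comm_of_isMulCommutative hA.1 hx hy
  set T : AddSubgroup V :=
    AddSubgroup.closure {v | ∃ e ∈ A, ∃ k ∈ K, ∃ u, v = σ (e * k * e⁻¹) u - u} with hT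
  have hgen : ∀ e ∈ A, ∀ k ∈ K, ∀ u, σ (e * k * e⁻¹) u - u ∈ T := fun e he k hk u =>
    AddSubgroup.subset_closure ⟨e, he, k, hk, u, rfl⟩
  have hAT : ∀ x ∈ A, ∀ t ∈ T, σ x t ∈ T := by
    intro x hx
    suffices h : T ≤ T.comap (σ x : V →+ V) from fun t ht => h ht
    refine (AddSubgroup.closure_le _).2 ?_
    rintro _ ⟨e, he, k, hk, u, rfl⟩
    show σ x (σ (e * k * e⁻¹) u - u) ∈ T
    have hxe : σ x (σ (e * k * e⁻¹) u) = σ ((x * e) * k * (x * e)⁻¹) (σ x u) := by
      show (σ x * σ (e * k * e⁻¹)) u = (σ ((x * e) * k * (x * e)⁻¹) * σ x) u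
      rw [← map_mul, ← map_mul]
      congr 2
      group
    rw [map_sub, hxe]
    exact hgen _ (mul_mem hx he) k hk _
  have hST : ∀ e ∈ A, ∀ k ∈ K, e * k * e⁻¹ ∈ stab σ T := by
    intro e he k hk
    have h1 : ∀ k ∈ K, ∀ t ∈ T, σ (e * k * e⁻¹) t ∈ T := fun k hk t ht => by
      simpa using add_mem (hgen e he k hk t) ht
    intro v
    refine ⟨fun h => ?_, h1 k hk v⟩
    have h2 := h1 k⁻¹ (inv_mem hk) _ h
    rwa [show σ (e * k⁻¹ * e⁻¹) (σ (e * k * e⁻¹) v) = v by
      show (σ (e * k⁻¹ * e⁻¹) * σ (e * k * e⁻¹)) v = v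
      rw [← map_mul, show e * k⁻¹ * e⁻¹ * (e * k * e⁻¹) = 1 by group, map_one]; rfl] at h2
  set H := stab σ T with hH
  have hKH : K ≤ H := fun k hk => by simpa using hST 1 (one_mem A) k hk
  have hAH : A ≤ H := by
    intro x hx v
    refine ⟨fun h => ?_, hAT x hx v⟩
    have h2 := hAT x⁻¹ (inv_mem hx) _ h
    rwa [show σ x⁻¹ (σ x v) = v from DFunLike.congr_fun (σ_inv_mul (σ := σ) x) v] at h2
  -- `T` is generated by its own commutators
  set T' : AddSubgroup V :=
    AddSubgroup.closure {v | ∃ e ∈ A, ∃ k ∈ K, ∃ t ∈ T, v = σ (e * k * e⁻¹) t - t} with hT'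
  have hTT : T ≤ T' := by
    refine (AddSubgroup.closure_le _).2 ?_
    rintro _ ⟨e, he, k, hk, u, rfl⟩
    let Y : Subgroup G :=
      { carrier := {s | ∀ v, σ s v - v ∈ T'}
        one_mem' := fun v => by simp
        mul_mem' := fun {x y} hx hy v => by
          have h : σ (x * y) v - v = (σ x (σ y v) - σ y v) + (σ y v - v) := by
            rw [map_mul]; show σ x (σ y v) - v = _; abel
          rw [h]; exact add_mem (hx _) (hy v)
        inv_mem' := fun {x} hx v => by
          have h : σ x⁻¹ v - v = -(σ x (σ x⁻¹ v) - σ x⁻¹ v) := by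
            rw [show σ x (σ x⁻¹ v) = v from DFunLike.congr_fun (σ_mul_inv (σ := σ) x) v, neg_sub]
          rw [h]; exact neg_mem (hx _) }
    suffices hY : K ≤ Y.comap (MulAut.conj e).toMonoidHom from hY hk u
    conv_lhs => rw [← hK.perfect]
    rw [commutator_le]
    intro g hg h hh
    show ∀ v, σ (e * ⁅g, h⁆ * e⁻¹) v - v ∈ T'
    intro v
    set x := e * g * e⁻¹
    set y := e * h * e⁻¹
    set w := σ ((y * x)⁻¹) v
    have hv : σ y (σ x w) = v := by
      show (σ y * σ x * σ ((y * x)⁻¹)) v = v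
      rw [← map_mul, ← map_mul, mul_inv_cancel, map_one]; rfl
    have hcw : σ (e * ⁅g, h⁆ * e⁻¹) v = σ x (σ y w) := by
      show σ (e * ⁅g, h⁆ * e⁻¹) v = (σ x * σ y * σ ((y * x)⁻¹)) v
      rw [← map_mul, ← map_mul, commutatorElement_def]
      congr 2
      simp only [x, y]
      group
    have he' : σ (e * ⁅g, h⁆ * e⁻¹) v - v =
        (σ x (σ y w - w) - (σ y w - w)) - (σ y (σ x w - w) - (σ x w - w)) := by
      rw [hcw, map_sub, map_sub, hv]; abel
    rw [he']
    exact sub_mem (AddSubgroup.subset_closure ⟨e, he, g, hg, _, hgen e he h hh w, rfl⟩)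
      (AddSubgroup.subset_closure ⟨e, he, h, hh, _, hgen e he g hg w, rfl⟩)
  set τ := subHom σ T
  have hsub : ∀ (e : H) (t : T), ((τ e t : T) : V) = σ (e : G) (t : V) := fun _ _ => rfl
  set Q := replace σ T A with hQ
  obtain ⟨hspec1, hspec2⟩ := replace_spec σ hp0 hA hbest hAT
  have hQA : Q ≤ A := replace_le σ T A
  have hK' := hK.subgroupOf hKH
  have hmap : ∀ {x : H}, x ∈ normalizer (K.subgroupOf H : Set H) → (x : G) ∈ normalizer (K : Set G) := by
    intro x hx
    rw [mem_normalizer_iff]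
    intro z
    refine ⟨fun hz => (mem_normalizer_iff.1 hx ⟨z, hKH hz⟩).1 hz, fun hz => ?_⟩
    have hzH : z ∈ H := by
      have := mul_mem (mul_mem (inv_mem x.2) (hKH hz)) x.2
      simpa [mul_assoc] using this
    exact (mem_normalizer_iff.1 hx ⟨z, hzH⟩).2 hz
  have hcard : ∀ B : Subgroup G, B ≤ H → Nat.card (B.subgroupOf H) = Nat.card B :=
    fun B hB => Nat.card_congr (Subgroup.subgroupOfEquivOfLe hB).toEquiv
  have htriv := trivial_of_offender (σ := τ) (p := p) hK' (A.subgroupOf H) (Q.subgroupOf H)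
    (fun x hx => hQA hx) (fun x hx y hy => Subtype.ext (hAc _ hx _ hy))
    (fun x hx => Subtype.ext (hA.2 _ hx))
    (fun t => Subtype.ext (by simp [hp0]))
    (fun x hx q hq => AddMonoidHom.ext fun t => Subtype.ext (by
      show σ (x : G) (σ (q : G) t.1 - t.1) - (σ (q : G) t.1 - t.1) = 0
      have hxq := DFunLike.congr_fun ((hAc _ hx _ (hQA hq)).map σ).eq t.1
      change σ (x : G) (σ (q : G) t.1) = σ (q : G) (σ (x : G) t.1) at hxq
      have hfix := fixed_of_mem_replace σ hq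
        (AddSubgroup.subset_closure ⟨t.1, t.2, (x : G), hx, rfl⟩ : t.1 - σ (x : G) t.1 ∈ commSpace σ T A)
      change σ (q : G) (t.1 - σ (x : G) t.1) = t.1 - σ (x : G) t.1 at hfix
      rw [map_sub] at hfix
      rw [map_sub, hxq, sub_eq_iff_eq_add.1 hfix]
      abel))
    (fun f hf => AddMonoidHom.ext fun t => by
      have hle : T' ≤ ((AddMonoidHom.ker (f : T →+ T)).map T.subtype) := by
        refine (AddSubgroup.closure_le _).2 ?_
        rintro _ ⟨e, he, k, hk, u, hu, rfl⟩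
        exact ⟨_, DFunLike.congr_fun (hf ⟨e, hAH he⟩ he ⟨k, hKH hk⟩ hk) ⟨u, hu⟩, rfl⟩
      obtain ⟨s, hs, hst⟩ := hle (hTT t.2)
      obtain rfl : s = t := Subtype.ext hst
      exact hs)
    (fun hQ1 x hx => AddMonoidHom.ext fun t => Subtype.ext
      (hspec2 (fun q hq v hv => show ((τ ⟨q, hAH (hQA hq)⟩ ⟨v, hv⟩ : T) : V) = v by
        rw [hQ1 ⟨q, hAH (hQA hq)⟩ hq]; rfl) _ hx t.1 t.2))
    (fun D hD hD1 => by
      have h1 := hspec1 (D.map H.subtype) (by rintro _ ⟨d, hd, rfl⟩; exact hD hd)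
        (by rintro _ ⟨d, hd, rfl⟩ v hv; exact congrArg Subtype.val (DFunLike.congr_fun (hD1 d hd) ⟨v, hv⟩))
      rw [card_map_of_injective H.subtype_injective] at h1
      rw [hcard Q (hQA.trans hAH)]
      refine h1.trans_eq (congrArg _ (Nat.card_congr (Equiv.subtypeEquivRight fun t => ?_)))
      exact ⟨fun h q hq => Subtype.ext (h q hq),
        fun h q hq => congrArg Subtype.val (h ⟨q, hAH (hQA hq)⟩ hq)⟩)
    (fun hp2 b hb hb2 hbc => by
      obtain ⟨x, hx, hxc, hodd, hbx⟩ := exists_inverted hc (hmap hb) (congrArg Subtype.val hb2)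
        (fun h => hbc (fun z hz => Subtype.ext (h (z : G) hz)))
      refine ⟨⟨x, hKH hx⟩, hx, fun h => hxc fun z hz => congrArg Subtype.val (h ⟨z, hKH hz⟩ hz), ?_,
        Subtype.ext hbx⟩
      exact (orderOf_injective H.subtype H.subtype_injective ⟨x, hKH hx⟩).symm ▸ hodd)
    (a := ⟨a, hAH haA⟩) haA (fun h => ha (hmap h))
  -- `K` fixes `T`, hence acts trivially on `V`
  have hfixT : ∀ k ∈ K, ∀ t ∈ T, σ k t = t := fun k hk t ht =>
    show ((τ ⟨k, hKH hk⟩ ⟨t, ht⟩ : T) : V) = t by rw [htriv ⟨k, hKH hk⟩ hk]; rfl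
  have hone : ∀ g ∈ K, σ g = 1 := trivial_of_commute hK.perfect fun g hg k hk =>
    AddMonoidHom.ext fun v => by
      show σ g (σ k v) = σ k (σ g v)
      have h1 : σ k v - v ∈ T := by simpa using hgen 1 (one_mem A) k hk v
      have h2 : σ g v - v ∈ T := by simpa using hgen 1 (one_mem A) g hg v
      have h3 := hfixT g hg _ h1
      have h4 := hfixT k hk _ h2
      rw [map_sub] at h3 h4
      rw [sub_eq_iff_eq_add.1 h3, sub_eq_iff_eq_add.1 h4]
      abel
  obtain ⟨u, hu, huc⟩ := hK.nonabelian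
  exact huc (hinj ((hone u hu).trans (map_one σ).symm) ▸ one_mem _)

end CfsgLib.PGV
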